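import Cfsg.Agent.Lib.HSEndgame.Abstract

/-!
# The second centraliser, with the subgroups of two cosets carrying an inverting automorphism

As in the version for HS, but a subgroup avoiding the first class only has to exclude that some automorphism
of it inverts many elements, no two differing by the second involution.
-/

set_option autoImplicit false
set_option linter.unusedSectionVars false
set_option linter.style.haveILetI false

namespace CfsgLib.CoThreeEndgame

open Subgroup CfsgLib.HSEndgame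

variable {G : Type*} [Group G] [Finite G] {t b : G} {X : Subgroup G}

section

variable (ht : orderOf t = 2) (htX : centralizer ({t} : Set G) ≤ X) (hbX : b ∈ X) (htb : ¬ IsConj t b)
  (hcls : ∀ x ∈ X, orderOf x = 2 → (∃ g ∈ X, g * x * g⁻¹ = t) ∨ ∃ g ∈ X, g * x * g⁻¹ = b)

include ht htX hbX htb hcls in
/-- The centraliser of `b` lies in the subgroup. -/
theorem centralizer_le (hb : orderOf b = 2) {N : ℕ} {S : Set G} (hSN : N ≤ S.ncard)
    (hS : ∀ x ∈ S, x ∈ X ∧ x * b = b * x ∧ IsConj t x)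
    (hN0 : 0 < N)
    (hpair : ∀ x ∈ X, x * b = b * x → IsConj t x → ¬ IsConj t (x * b))
    (hD : ∀ D : Subgroup G, D ≤ X ⊓ centralizer ({b} : Set G) → b ∈ D → (∀ x ∈ D, ¬ IsConj t x) →
      ∀ σ : G, (∀ x ∈ D, σ * x * σ⁻¹ ∈ D) → σ * b * σ⁻¹ = b →
        ∀ M : Set G, (∀ x ∈ M, x ∈ D ∧ σ * x * σ⁻¹ = x⁻¹ ∧ x * b ∉ M) → M.ncard < N) :
    centralizer ({b} : Set G) ≤ X := by
  classical
  by_contra hnle
  set Y := centralizer ({b} : Set G) with hY
  set U := X.subgroupOf Y with hU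
  have hbY : b ∈ Y := mem_centralizer_singleton_iff.2 rfl
  -- conjugates of t commuting with b fix one coset
  have hexist : ∀ u : ↥Y, IsConj t (u : G) → ∃ c : ↥Y ⧸ U, u • c = c := fun u hu => by
    obtain ⟨k, hk⟩ := isConj_iff.1 hu
    have hbk : k⁻¹ * b * k ∈ X := htX (mem_centralizer_singleton_iff.2 (by
      have huc := mem_centralizer_singleton_iff.1 u.2
      rw [← hk] at huc
      calc k⁻¹ * b * k * t = k⁻¹ * (b * (k * t * k⁻¹)) * k := by group
        _ = t * (k⁻¹ * b * k) := by rw [← huc]; group))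
    have hob : orderOf (k⁻¹ * b * k) = 2 := by
      rw [← hb]; simpa using MulEquiv.orderOf_eq (MulAut.conj k⁻¹) b
    rcases hcls _ hbk hob with ⟨x, -, e⟩ | ⟨x, hx, e⟩
    · exact absurd (IsConj.symm (isConj_iff.2 ⟨x * k⁻¹, by rw [← e]; group⟩)) htb
    · have hy : k * x⁻¹ ∈ Y := mem_centralizer_singleton_iff.2 (by
        calc k * x⁻¹ * b = k * x⁻¹ * (x * (k⁻¹ * b * k) * x⁻¹) := by rw [e]
          _ = b * (k * x⁻¹) := by group)
      refine ⟨QuotientGroup.mk ⟨k * x⁻¹, hy⟩, CfsgLib.Invol.smul_coset_eq_self.2 (mem_subgroupOf.2 ?_)⟩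
      have ht' : t ∈ X := htX (mem_centralizer_singleton_iff.2 rfl)
      show (k * x⁻¹)⁻¹ * (u : G) * (k * x⁻¹) ∈ X
      rw [← hk, show (k * x⁻¹)⁻¹ * (k * t * k⁻¹) * (k * x⁻¹) = x * t * x⁻¹ by group]
      exact mul_mem (mul_mem hx ht') (inv_mem hx)
  have huniq : ∀ u : ↥Y, IsConj t (u : G) → ∀ c d : ↥Y ⧸ U, u • c = c → u • d = d → c = d := by
    intro u hu c d hc hd
    induction c using QuotientGroup.induction_on with
    | H y =>
    induction d using QuotientGroup.induction_on with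
    | H w =>
    rw [CfsgLib.Invol.smul_coset_eq_self, mem_subgroupOf] at hc hd
    refine QuotientGroup.eq.2 (mem_subgroupOf.2 ?_)
    refine mem_of_conj ht htX htb hcls hd (hu.trans (isConj_iff.2 ⟨(w : G)⁻¹, by simp⟩)) ?_
    push_cast at hc ⊢
    rwa [show (y : G)⁻¹ * w * ((w : G)⁻¹ * u * w) * ((y : G)⁻¹ * w)⁻¹ = (y : G)⁻¹ * u * y by group]
  set T := {u : ↥Y // IsConj t (u : G)} with hT
  choose pt hpt using fun u : T => hexist u.1 u.2
  have hsq : ∀ u : T, (u.1 : ↥Y) * u.1 = 1 := fun u => Subtype.ext (by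
    have h := orderOf_of_isConj ht u.2
    rw [coe_mul, coe_one, ← pow_two, ← h, pow_orderOf_eq_one])
  -- each coset is fixed by at least N of them
  haveI : Fintype T := Fintype.ofFinite _
  haveI : Fintype (↥Y ⧸ U) := Fintype.ofFinite _
  set c0 : ↥Y ⧸ U := QuotientGroup.mk 1 with hc0
  have hfix : ∀ c, N ≤ (Finset.univ.filter fun u : T => pt u = c).card := by
    intro c
    induction c using QuotientGroup.induction_on with
    | H y =>
    refine hSN.trans ?_
    rw [← Nat.card_coe_set_eq, ← Nat.card_eq_finsetCard]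
    refine Nat.card_le_card_of_injective (fun x : S =>
      (⟨⟨y * ⟨(x : G), mem_centralizer_singleton_iff.2 (hS x x.2).2.1⟩ * y⁻¹,
        (hS x x.2).2.2.trans (isConj_iff.2 ⟨(y : G), rfl⟩)⟩, Finset.mem_filter.2 ⟨Finset.mem_univ _, ?_⟩⟩ :
          ↥(Finset.univ.filter fun u : T => pt u = QuotientGroup.mk y))) ?_
    · refine huniq _ ((hS x x.2).2.2.trans (isConj_iff.2 ⟨(y : G), rfl⟩)) _ _ (hpt _)
        (CfsgLib.Invol.smul_coset_eq_self.2 (mem_subgroupOf.2 ?_))
      show (y : G)⁻¹ * (y * x * (y : G)⁻¹) * y ∈ X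
      rw [show (y : G)⁻¹ * (y * (x : G) * (y : G)⁻¹) * y = x by group]
      exact (hS x x.2).1
    · intro x x' e
      have e' : (y : G) * x * (y : G)⁻¹ = y * x' * (y : G)⁻¹ := congrArg (fun u => (((u.1 : T).1 : ↥Y) : G)) e
      exact Subtype.ext (by simpa using e')
  obtain ⟨c1, hc1⟩ : ∃ c : ↥Y ⧸ U, c ≠ c0 := by
    obtain ⟨g, hg, hgX⟩ := SetLike.not_le_iff_exists.1 hnle
    refine ⟨QuotientGroup.mk ⟨g, hg⟩, fun e => hgX ?_⟩
    have := mem_subgroupOf.1 (QuotientGroup.eq.1 e)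
    simpa using this
  -- some other coset is the image of the first one under at least N of them
  have hmov : ∃ q : ↥Y ⧸ U, q ≠ c0 ∧ N ≤ (Finset.univ.filter fun u : T => u.1 • c0 = q).card := by
    by_contra h
    simp only [not_exists, not_and, not_le] at h
    have h1 : ∑ c, (Finset.univ.filter fun u : T => pt u = c).card = Fintype.card T :=
      (Finset.card_eq_sum_card_fiberwise fun u _ => Finset.mem_univ _).symm
    have h2 : ∑ c, (Finset.univ.filter fun u : T => u.1 • c0 = c).card = Fintype.card T :=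
      (Finset.card_eq_sum_card_fiberwise fun u _ => Finset.mem_univ _).symm
    have h3 : (Finset.univ.filter fun u : T => u.1 • c0 = c0) = Finset.univ.filter fun u : T => pt u = c0 := by
      refine Finset.filter_congr fun u _ => ⟨fun hu => huniq _ u.2 _ _ (hpt u) hu, fun hu => ?_⟩
      rw [← hu]; exact hpt u
    have h4 : ∑ c, (Finset.univ.filter fun u : T => u.1 • c0 = c).card <
        ∑ c, (Finset.univ.filter fun u : T => pt u = c).card := by
      refine Finset.sum_lt_sum (fun c _ => ?_) ⟨c1, Finset.mem_univ _, (h c1 hc1).trans_le (hfix c1)⟩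
      rcases eq_or_ne c c0 with rfl | hc
      · rw [h3]
      · exact (h c hc).le.trans (hfix c)
    omega
  obtain ⟨q, hq, hN⟩ := hmov
  obtain ⟨u0, hu0⟩ := Finset.card_pos.1 (lt_of_lt_of_le hN0 hN)
  simp only [Finset.mem_filter, Finset.mem_univ, true_and] at hu0
  set W : Subgroup ↥Y := MulAction.stabilizer ↥Y c0 ⊓ MulAction.stabilizer ↥Y q with hW
  have hWX : W.map Y.subtype ≤ X ⊓ Y := by
    rintro _ ⟨w, hw, rfl⟩
    have h := MulAction.mem_stabilizer_iff.1 (mem_inf.1 hw).1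
    rw [hc0, CfsgLib.Invol.smul_coset_eq_self, inv_one, one_mul, mul_one] at h
    exact ⟨h, w.2⟩
  have hbW : b ∈ W.map Y.subtype := by
    have hfixb : ∀ c : ↥Y ⧸ U, (⟨b, hbY⟩ : ↥Y) • c = c := fun c => by
      induction c using QuotientGroup.induction_on with
      | H y =>
      refine CfsgLib.Invol.smul_coset_eq_self.2 (mem_subgroupOf.2 ?_)
      show (y : G)⁻¹ * b * y ∈ X
      rw [mul_assoc, ← mem_centralizer_singleton_iff.1 y.2, inv_mul_cancel_left]
      exact hbX
    exact ⟨⟨b, hbY⟩, mem_inf.2 ⟨hfixb c0, hfixb q⟩, rfl⟩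
  have hback : ∀ u : T, u.1 • c0 = q → u.1 • q = c0 := fun u hu => by
    rw [← hu, ← mul_smul, hsq, one_smul]
  set M : Set G := (fun u : T => ((u0.1 : G) * (u.1 : G))) '' {u : T | u.1 • c0 = q} with hM
  have hswap : ∀ x ∈ W.map Y.subtype, (u0.1 : G) * x * (u0.1 : G)⁻¹ ∈ W.map Y.subtype := by
    rintro _ ⟨w, hw, rfl⟩
    refine ⟨u0.1 * w * u0.1⁻¹, mem_inf.2 ⟨?_, ?_⟩, by push_cast; rfl⟩
    · rw [MulAction.mem_stabilizer_iff, inv_eq_of_mul_eq_one_right (hsq u0), mul_smul, mul_smul, hu0,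
        MulAction.mem_stabilizer_iff.1 (mem_inf.1 hw).2, hback u0 hu0]
    · rw [MulAction.mem_stabilizer_iff, inv_eq_of_mul_eq_one_right (hsq u0), mul_smul, mul_smul, hback u0 hu0,
        MulAction.mem_stabilizer_iff.1 (mem_inf.1 hw).1, hu0]
  have hsq' : ∀ u : T, (u.1 : G) * (u.1 : G) = 1 := fun u => congrArg Subtype.val (hsq u)
  have hlt := hD _ hWX hbW (by
    rintro _ ⟨w, hw, rfl⟩ hwt
    exact hq (huniq w hwt q c0 (mem_inf.1 hw).2 (mem_inf.1 hw).1)) (u0.1 : G) hswap (by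
      rw [mem_centralizer_singleton_iff.1 u0.1.2, mul_inv_cancel_right]) M (by
    rintro _ ⟨u, hu, rfl⟩
    refine ⟨⟨u0.1 * u.1, mem_inf.2 ⟨?_, ?_⟩, by push_cast; rfl⟩, ?_, ?_⟩
    · rw [MulAction.mem_stabilizer_iff, mul_smul, hu, hback u0 hu0]
    · rw [MulAction.mem_stabilizer_iff, mul_smul, hback u hu, hu0]
    · rw [mul_inv_rev, inv_eq_of_mul_eq_one_right (hsq' u0), inv_eq_of_mul_eq_one_right (hsq' u),
        ← mul_assoc ((u0.1 : G)), hsq' u0, one_mul]
    · rintro ⟨u', hu', e⟩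
      rw [mul_assoc] at e
      have e' : (u'.1 : G) = (u.1 : G) * b := mul_left_cancel e
      obtain ⟨c, hc⟩ := hexist u.1 u.2
      induction c using QuotientGroup.induction_on with
      | H y =>
      rw [CfsgLib.Invol.smul_coset_eq_self, mem_subgroupOf] at hc
      push_cast at hc
      have hby : (y : G)⁻¹ * b * y = b := by
        rw [mul_assoc, ← mem_centralizer_singleton_iff.1 y.2, inv_mul_cancel_left]
      refine hpair _ hc ?_ (u.2.trans (isConj_iff.2 ⟨(y : G)⁻¹, by group⟩)) ?_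
      · calc (y : G)⁻¹ * u.1 * y * b = (y : G)⁻¹ * ((u.1 : G) * b) * y := by
              rw [mul_assoc _ (y : G) b, mem_centralizer_singleton_iff.1 y.2]; group
          _ = (y : G)⁻¹ * (b * u.1) * y := by rw [mem_centralizer_singleton_iff.1 u.1.2]
          _ = (y : G)⁻¹ * b * y * ((y : G)⁻¹ * u.1 * y) := by group
          _ = b * ((y : G)⁻¹ * u.1 * y) := by rw [hby]
      · refine u'.2.trans (isConj_iff.2 ⟨(y : G)⁻¹, ?_⟩)
        rw [e']
        calc (y : G)⁻¹ * ((u.1 : G) * b) * (y : G)⁻¹⁻¹ = (y : G)⁻¹ * u.1 * y * ((y : G)⁻¹ * b * y) := by group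
          _ = (y : G)⁻¹ * u.1 * y * b := by rw [hby])
  rw [hM, Set.ncard_image_of_injective _ fun u u' e => Subtype.ext (Subtype.ext (mul_left_cancel e))] at hlt
  have e : {u : T | u.1 • c0 = q}.ncard = (Finset.univ.filter fun u : T => u.1 • c0 = q).card := by
    rw [← Set.ncard_coe_finset]
    congr 1
    ext u
    simp
  omega

end

end CfsgLib.CoThreeEndgame
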