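import Cfsg.Agent.Lib.CoThreeEndgame.Coded
import Cfsg.Agent.Lib.CoThreeEndgame.DataChain
import Cfsg.Agent.Lib.Rigid.Spor

/-!
# Kernel checks: the chain of Co3
-/

set_option autoImplicit false
set_option maxRecDepth 100000
set_option maxHeartbeats 2000000
set_option Elab.async false

namespace CfsgLib.CoThreeEndgame

open CfsgLib.Rigid

/-- The identity. -/
abbrev one : List ℕ := Co3.data.one

/-- The three generators and the program. -/
def hKnown : List (List ℕ) := [Co3.data.u, Co3.data.v, Co3.data.w] ++ hOps.map Op.M

/-- The base points. -/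
def basePts : List ℕ := hLevels.map Level.b

theorem hops_ok : slpOk one hOps [Co3.data.u, Co3.data.v, Co3.data.w] = true := by decide +kernel

theorem hbase_ok : baseTest hCoef hLevels = true := by decide +kernel

theorem hlen : hLevels.length = 6 := rfl

theorem hlev0_ok : hLev0.ok one hKnown [] = true := by decide +kernel

theorem hlev1_ok : hLev1.ok one hKnown [hLev0.b] = true := by decide +kernel

theorem hlev2_ok : hLev2.ok one hKnown (hLev1.b :: [hLev0.b]) = true := by decide +kernel

theorem hlev3_ok : hLev3.ok one hKnown (hLev2.b :: (hLev1.b :: [hLev0.b])) = true := by decide +kernel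

theorem hlev4_ok : hLev4.ok one hKnown (hLev3.b :: (hLev2.b :: (hLev1.b :: [hLev0.b]))) = true := by
  decide +kernel

theorem hlev5_ok : hLev5.ok one hKnown (hLev4.b :: (hLev3.b :: (hLev2.b :: (hLev1.b :: [hLev0.b])))) = true := by
  decide +kernel

theorem hprod_ok : Cod.prodLen (hLevels.map fun L => (L.b, L.pts)) = 495766656000 := by decide +kernel

end CfsgLib.CoThreeEndgame
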