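import Cfsg.Agent.Lib.CoThreeEndgame.Coded
import Cfsg.Agent.Lib.CoThreeEndgame.ChecksChain
import Cfsg.Agent.Lib.CoThreeEndgame.DataCent

/-!
# Kernel checks: centralisers
-/

set_option autoImplicit false
set_option maxRecDepth 100000
set_option maxHeartbeats 2000000
set_option Elab.async false

namespace CfsgLib.CoThreeEndgame

open CfsgLib.Rigid

/-- The element of the group with given indices. -/
noncomputable def hEl (is : List ℕ) : List ℕ := prodIdx one hLevels is

/-- The element of the centraliser with given indices. -/
noncomputable def uEl (is : List ℕ) : List ℕ := prodIdx one uLevels is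

/-- The equations for the centraliser of the involution. -/
def bCons : List (Option Cons) :=
  (uLevels.take 5).map (fun L => some ⟨L.b, 1, bC, bC⟩) ++ [none]

/-- The equations for a power-linked chain. -/
def zCons (z : List ℕ) (Ls : List Level) : List (Option Cons) :=
  none :: (Ls.take 4).map (fun L => some ⟨L.b, 1, z, z⟩) ++ [none]

theorem a_ok : eqL (hEl aIdx) aC && eqL (mulF aC aC) one && !(eqL aC one) = true := by decide +kernel

theorem ugen_ok : decide (uKnown.length = uIdx.length) &&
    (List.range uKnown.length).all (fun k => eqL (hEl (uIdx.getD k [])) (uKnown.getD k []) &&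
      eqL (mulF bC (uKnown.getD k [])) (mulF (uKnown.getD k []) bC)) = true := by decide +kernel

theorem ulevels_ok : (List.range 6).all (fun i =>
    (uLevels.getD i hLev0).ok one uKnown ((uLevels.take i).map Level.b).reverse &&
    (fLevels.getD i hLev0).ok one uKnown ((fLevels.take i).map Level.b).reverse &&
    (eLevels.getD i hLev0).ok one uKnown ((eLevels.take i).map Level.b).reverse) = true := by decide +kernel

theorem ubase_ok : baseTest uCoef uLevels = true ∧ baseTest fCoef fLevels = true ∧ baseTest eCoef eLevels = true := by
  refine ⟨?_, ?_, ?_⟩ <;> decide +kernel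

theorem uprod_ok : Cod.prodLen (uLevels.map fun L => (L.b, L.pts)) = 190080 ∧
    Cod.prodLen (fLevels.map fun L => (L.b, L.pts)) = 190080 ∧
    Cod.prodLen (eLevels.map fun L => (L.b, L.pts)) = 190080 := by
  refine ⟨?_, ?_, ?_⟩ <;> decide +kernel

theorem usub_ok : subB one bC (slevels one bCons hLevels) (uLevels.map Level.pts) [] = true ∧
    ((uLevels.map Level.pts).map List.length).prod = 190080 := by
  refine ⟨?_, ?_⟩ <;> decide +kernel

theorem uelts_ok : eqL (uEl bCIdx) bC && eqL (uEl y5CIdx) y5C && eqL (uEl z5CIdx) z5C &&
    eqL (uEl y11CIdx) y11C && eqL (uEl z11CIdx) z11C && eqL (mulF bC bC) one && !(eqL bC one) &&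
    eqL z5C (mulF y5C bC) && eqL (powC one y5C 5) one && !(eqL y5C one) &&
    eqL z11C (mulF y11C bC) && eqL (powC one y11C 11) one && !(eqL y11C one) = true := by decide +kernel

theorem search5_ok : srch z5C z5C 0 c5List (slevels one (zCons z5C fLevels) fLevels) [] one &&
    c5List.all (fun M => hasB c5List (mulF z5C M)) && decide (c5List.length = 20) = true := by decide +kernel

theorem search11_ok : srch z11C z11C 0 c11List (slevels one (zCons z11C eLevels) eLevels) [] one &&
    c11List.all (fun M => hasB c11List (mulF z11C M)) && decide (c11List.length = 22) = true := by decide +kernel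

end CfsgLib.CoThreeEndgame
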