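import Cfsg.Agent.Lib.CoThreeEndgame.Coded
import Cfsg.Agent.Lib.CoThreeEndgame.ChecksCent
import Cfsg.Agent.Lib.CoThreeEndgame.DataInv

/-!
# Kernel checks: the involutions of the centraliser
-/

set_option autoImplicit false
set_option maxRecDepth 100000
set_option maxHeartbeats 2000000
set_option Elab.async false

namespace CfsgLib.CoThreeEndgame

open CfsgLib.Rigid

theorem pu_gens : decide (puGens.length = puGenIdx.length) &&
    (List.range puGens.length).all (fun k => eqL (uEl (puGenIdx.getD k [])) (puGens.getD k [])) = true := by
  decide +kernel

theorem pu_list : listB one 128 puChunks puGens puTab puPar basePts = true := by decide +kernel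

theorem s_tree : decide (sList.length = 495) && eqL (uEl sIdx) (sList.getD 0 []) &&
    eqL (mulF (hEl sWit) (sList.getD 0 [])) (mulF aC (hEl sWit)) &&
    decide (sPar.length = 494) &&
    (List.range 494).all (fun k => decide ((sPar.getD k (0, 0)).2 ≤ k) &&
      decide ((sPar.getD k (0, 0)).1 < uKnown.length) &&
      eqL (mulF (uKnown.getD (sPar.getD k (0, 0)).1 []) (sList.getD (sPar.getD k (0, 0)).2 []))
        (mulF (sList.getD (k + 1) []) (uKnown.getD (sPar.getD k (0, 0)).1 []))) &&
    ndTest 200 (sList.map (key basePts)) = true := by decide +kernel

theorem pu_wit : puWit.all (fun w =>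
    eqL (mulF (hEl w.2) (getC puChunks w.1)) (mulF bC (hEl w.2))) = true := by decide +kernel

/-- The facts about one element of the Sylow subgroup. -/
noncomputable def factU (k : ℕ) : Bool :=
  let g := getC puChunks k
  let q := mulF g g
  match eqL q one with
  | false => !(eqL (mulF q q) one) || hasB sList q || hasB sList (mulF q bC)
  | true =>
    eqL g one ||
      ((hasB sList g || (puWit.map fun w => w.1).elem k) &&
        (!(hasB sList g) || (puWit.any fun w => eqL (getC puChunks w.1) (mulF g bC))) &&
        (eqL g bC || hasB sList g || hasB sList (mulF g bC) || hasB wList g))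

theorem pu_fact : (List.range 128).all factU = true := by decide +kernel

/-- Whether two codes commute. -/
noncomputable def comB (x y : List ℕ) : Bool := eqL (mulF x y) (mulF y x)

theorem w_ok : wList.all (fun x =>
    let cx := wList.filter (comB x)
    cx.all fun y => eqL y x || eqL y (mulF x bC) || !(hasB wList (mulF x y)) || cx.all fun r =>
      !(comB y r) || eqL r x || eqL r y || eqL r (mulF x y) || eqL r (mulF x bC) || eqL r (mulF y bC) ||
        eqL r (mulF (mulF x y) bC) ||
        !(hasB wList (mulF r x) && hasB wList (mulF r y) && hasB wList (mulF r (mulF x y)))) = true := by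
  decide +kernel

end CfsgLib.CoThreeEndgame
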