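import Cfsg.Agent.Lib.CoThreeEndgame.Coded
import Cfsg.Agent.Lib.CoThreeEndgame.ChecksCent
import Cfsg.Agent.Lib.CoThreeEndgame.DataSylow

/-!
# Kernel checks: a Sylow two-subgroup of Co3
-/

set_option autoImplicit false
set_option maxRecDepth 100000
set_option maxHeartbeats 2000000
set_option Elab.async false

namespace CfsgLib.CoThreeEndgame

open CfsgLib.Rigid

theorem pa_gens : decide (paGens.length = paGenIdx.length) &&
    (List.range paGens.length).all (fun k => eqL (hEl (paGenIdx.getD k [])) (paGens.getD k [])) = true := by
  decide +kernel

theorem pa_list : listB one 1024 paChunks paGens paTab paPar basePts = true := by decide +kernel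

/-- The indices of the listed involutions. -/
def paMask : ℕ := paWit.foldr (fun w r => (1 <<< w.1) ||| r) 0

theorem pa_invol : (List.range 1024).all (fun k =>
    paMask.testBit k || Nat.beq k 0 || !(eqL (mulF (getC paChunks k) (getC paChunks k)) one)) = true := by
  decide +kernel

theorem pa_wit : paWit.all (fun w =>
    eqL (mulF (hEl w.2.2) (getC paChunks w.1)) (mulF (if w.2.1 then aC else bC) (hEl w.2.2))) = true := by
  decide +kernel

end CfsgLib.CoThreeEndgame
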