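import Cfsg.Agent.Lib.Rigid.Out

/-!
# Coded groups: restriction, products of representatives, listed subgroups, and an exact centraliser

Everything is stated for a group acting on bit vectors through codes with a certified chain of orbits.
-/

set_option autoImplicit false
set_option linter.unusedSectionVars false

namespace CfsgLib.CoThreeEndgame

open CfsgLib.Rigid

/-- The product of the representatives with given indices. -/
noncomputable def prodIdx (one : List ℕ) : List Level → List ℕ → List ℕ
  | L :: Ls, i :: is => mulF ((optsM L.b one L.tm).getD i (0, one)).2 (prodIdx one Ls is)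
  | _, _ => one

/-- The levels of a search. -/
def slevels (one : List ℕ) : List (Option Cons) → List Level → List SLev
  | cn :: cns, L :: Ls => ⟨L.b, L.pts, optsM L.b one L.tm, cn, false⟩ :: slevels one cns Ls
  | _, _ => []

/-- Membership of a code. -/
noncomputable def hasB (L : List (List ℕ)) (M : List ℕ) : Bool := L.any (eqL M)

/-- Distinguishing numbers of codes. -/
noncomputable def key (ps : List ℕ) (M : List ℕ) : ℕ :=
  ps.foldr (fun p r => Nat.add (img M p) (Nat.mul 8388608 r)) 0

/-- An entry of a list in chunks of thirty-two. -/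
def getC (T : List (List (List ℕ))) (k : ℕ) : List ℕ := (T.getD (k / 32) []).getD (k % 32) []

/-- The check of a listed subgroup. -/
noncomputable def listB (one : List ℕ) (n : ℕ) (T : List (List (List ℕ))) (gens : List (List ℕ))
    (tab : List (List ℕ)) (par : List (ℕ × ℕ)) (ps : List ℕ) : Bool :=
  decide (0 < n) && eqL (getC T 0) one &&
  (List.range gens.length).all (fun i => decide ((tab.getD i []).length = n) &&
    ((tab.getD i []).zip (List.range n)).all fun e =>
      Nat.blt e.1 n && eqL (mulF (gens.getD i []) (getC T e.2)) (getC T e.1)) &&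
  decide (par.length = n - 1) &&
  (par.zip (List.range (n - 1))).all (fun e => Nat.blt e.1.1 gens.length && Nat.ble e.1.2 e.2 &&
      eqL (getC T (e.2 + 1)) (mulF (gens.getD e.1.1 []) (getC T e.1.2))) &&
  ndTest 200 ((List.range n).map fun k => key ps (getC T k))

/-- No commuting element sends a base point outside the listed orbit of the centraliser. -/
noncomputable def subB (one A : List ℕ) : List SLev → List (List ℕ) → List ℕ → Bool
  | [], [], _ => true
  | L :: Ls, ps :: pss, fixed =>
    side A one fixed L.b L.cn false &&
    (L.pts.all fun p => ps.elem p || !(pass A one 0 L.b L.cn false p) ||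
      match lkup p L.opts with
      | none => false
      | some M => srch A A 0 [] Ls (L.b :: fixed) M) &&
    subB one A Ls pss (L.b :: fixed)
  | _, _, _ => false

variable {G : Type*} [Group G] {c : Cod G}

theorem mem_hasB {L : List (List ℕ)} {M : List ℕ} : hasB L M = true ↔ M ∈ L := by
  simp [hasB, List.any_eq_true, eqL_iff]

/-- The codes on a subgroup. -/
def restrict (c : Cod G) (K : Subgroup G) : Cod ↥K where
  C g := c.C (g : G)
  Pt := c.Pt
  mul g h := c.mul g h
  img_pt g p := c.img_pt (g : G) p
  one_img p hp := c.one_img p hp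

theorem restrict_C (K : Subgroup G) (g : ↥K) : (restrict c K).C g = c.C (g : G) := rfl

theorem allOpts_of_levels {one : List ℕ} (h1 : c.C 1 = one) {known : List (List ℕ)}
    (hk : ∀ M ∈ known, c.Mem ⊤ M) : ∀ (cns : List (Option Cons)) (Ls : List Level) (l : List ℕ),
    c.Levels one known l Ls → c.AllOpts l (slevels one cns Ls) := by
  intro cns
  induction cns with
  | nil => intro Ls l _; cases Ls <;> trivial
  | cons cn cns ih =>
    intro Ls l h
    cases Ls with
    | nil => trivial
    | cons L Ls => exact ⟨(c.level_sound h1 hk h.2.1).2.2, h.1, ih Ls _ h.2.2⟩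

theorem slevels_pts (one : List ℕ) : ∀ (cns : List (Option Cons)) (Ls : List Level),
    cns.length = Ls.length →
      (slevels one cns Ls).map (fun L => (L.b, L.pts)) = Ls.map fun L => (L.b, L.pts) := by
  intro cns
  induction cns with
  | nil => intro Ls h; cases Ls with
    | nil => rfl
    | cons L Ls => simp at h
  | cons cn cns ih =>
    intro Ls h
    cases Ls with
    | nil => simp at h
    | cons L Ls =>
      simp only [slevels, List.map_cons]
      rw [ih Ls (by simpa using h)]

theorem prodIdx_mem {one : List ℕ} (h1 : c.C 1 = one) {known : List (List ℕ)}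
    (hk : ∀ M ∈ known, c.Mem ⊤ M) : ∀ (Ls : List Level) (l : List ℕ), c.Levels one known l Ls →
      ∀ is : List ℕ, ∃ g, c.C g = prodIdx one Ls is := by
  intro Ls
  induction Ls with
  | nil => intro l _ is; exact ⟨1, by rw [h1]; cases is <;> rfl⟩
  | cons L Ls ih =>
    intro l h is
    cases is with
    | nil => exact ⟨1, h1⟩
    | cons i is =>
      obtain ⟨g, hg⟩ := ih _ h.2.2 is
      obtain ⟨r, hr⟩ : ∃ r, c.C r = ((optsM L.b one L.tm).getD i (0, one)).2 := by
        by_cases hi : i < (optsM L.b one L.tm).length
        · obtain ⟨r, -, hr, -⟩ := (c.level_sound h1 hk h.2.1).2.2 _ (List.getElem_mem hi)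
          exact ⟨r, by rw [List.getD_eq_getElem _ _ hi, hr]⟩
        · exact ⟨1, by rw [List.getD_eq_default _ _ (by omega), h1]⟩
      exact ⟨r * g, by rw [c.mul, hr, hg, prodIdx]⟩

/-- A listed subgroup. -/
theorem exists_list_subgroup [Finite G] (hinj : Function.Injective c.C) {one : List ℕ} (h1 : c.C 1 = one)
    {n : ℕ} {T : List (List (List ℕ))} {gens : List (List ℕ)} {tab : List (List ℕ)} {par : List (ℕ × ℕ)}
    {ps : List ℕ} (h : listB one n T gens tab par ps = true) (hg : ∀ M ∈ gens, c.Mem ⊤ M) :
    ∃ P : Subgroup G, Nat.card ↥P = n ∧ (∀ y ∈ P, ∃ k < n, c.C y = getC T k) ∧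
      ∀ k < n, ∃ y ∈ P, c.C y = getC T k := by
  simp only [listB, Bool.and_eq_true, decide_eq_true_eq, List.all_eq_true, List.mem_range, Nat.blt_eq,
    Nat.ble_eq, eqL_iff] at h
  obtain ⟨⟨⟨⟨⟨hn, h0⟩, htab'⟩, hlen⟩, hpar'⟩, hnd⟩ := h
  have htab : ∀ i < gens.length, ∀ k < n, (tab.getD i []).getD k n < n ∧
      mulF (gens.getD i []) (getC T k) = getC T ((tab.getD i []).getD k n) := by
    intro i hi k hk
    obtain ⟨hl, hall⟩ := htab' i hi
    have hk' : k < (tab.getD i []).length := by omega
    rw [List.getD_eq_getElem _ n hk']
    have hz : k < ((tab.getD i []).zip (List.range n)).length := by simp only [List.length_zip, List.length_range]; omega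
    have h := hall _ (List.getElem_mem hz)
    simpa only [List.getElem_zip, List.getElem_range] using h
  have hpar : ∀ k < n - 1, ((par.getD k (0, 0)).1 < gens.length ∧ (par.getD k (0, 0)).2 ≤ k) ∧
      getC T (k + 1) = mulF (gens.getD (par.getD k (0, 0)).1 []) (getC T (par.getD k (0, 0)).2) := by
    intro k hk
    rw [List.getD_eq_getElem _ _ (show k < par.length by omega)]
    have hz : k < (par.zip (List.range (n - 1))).length := by simp only [List.length_zip, List.length_range]; omega
    have h := hpar' _ (List.getElem_mem hz)
    simpa only [List.getElem_zip, List.getElem_range] using h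
  set S : Set G := {g | c.C g ∈ gens} with hS
  set P := Subgroup.closure S with hP
  have hmem : ∀ y ∈ P, ∃ k < n, c.C y = getC T k := by
    intro y hy
    rw [hP, ← Subgroup.mem_toSubmonoid, Subgroup.closure_toSubmonoid_of_finite] at hy
    suffices ∀ k < n, ∃ k' < n, mulF (c.C y) (getC T k) = getC T k' by
      obtain ⟨k', hk', e⟩ := this 0 hn
      refine ⟨k', hk', ?_⟩
      rwa [h0, ← h1, ← c.mul, mul_one] at e
    induction hy using Submonoid.closure_induction with
    | mem s hs =>
      intro k hk
      obtain ⟨i, hi, e⟩ := List.getElem_of_mem (hs : c.C s ∈ gens)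
      obtain ⟨h2, h3⟩ := htab i hi k hk
      rw [List.getD_eq_getElem _ _ hi, e] at h3
      exact ⟨_, h2, h3⟩
    | one =>
      intro k hk
      have hex : ∀ j < n, ∃ g, c.C g = getC T j := by
        intro j
        induction j using Nat.strong_induction_on with
        | h j ih =>
          intro hj
          rcases j with _ | j
          · exact ⟨1, by rw [h1, h0]⟩
          · obtain ⟨⟨h2, h3⟩, h4⟩ := hpar j (by omega)
            obtain ⟨g, hg'⟩ := ih _ (Nat.lt_succ_of_le h3) (by omega)
            obtain ⟨r, -, hr⟩ := hg _ (List.getElem_mem h2)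
            exact ⟨r * g, by rw [c.mul, hr, hg', h4, List.getD_eq_getElem _ _ h2]⟩
      obtain ⟨g, hg'⟩ := hex k hk
      exact ⟨k, hk, by rw [← hg', ← c.mul, one_mul]⟩
    | mul a b _ _ ha hb =>
      intro k hk
      obtain ⟨k', hk', e'⟩ := hb k hk
      obtain ⟨k'', hk'', e''⟩ := ha k' hk'
      refine ⟨k'', hk'', ?_⟩
      rw [← e'', ← e', c.mul]
      simp only [mulF, List.map_map]
      exact List.map_congr_left fun x _ => img_mulF _ _ _
  have hsurj : ∀ k < n, ∃ y ∈ P, c.C y = getC T k := by
    intro k
    induction k using Nat.strong_induction_on with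
    | h k ih =>
      intro hk
      rcases k with _ | k
      · exact ⟨1, one_mem _, by rw [h1, h0]⟩
      · obtain ⟨⟨h2, h3⟩, h4⟩ := hpar k (by omega)
        obtain ⟨y, hy, hy'⟩ := ih _ (Nat.lt_succ_of_le h3) (by omega)
        obtain ⟨r, -, hr⟩ := hg _ (List.getElem_mem h2)
        have hrS : r ∈ S := by
          show c.C r ∈ gens
          rw [hr]; exact List.getElem_mem h2
        exact ⟨r * y, mul_mem (Subgroup.subset_closure hrS) hy,
          by rw [c.mul, hr, hy', h4, List.getD_eq_getElem _ _ h2]⟩
  refine ⟨P, ?_, hmem, hsurj⟩
  choose f hf hCf using hsurj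
  have hbij : Function.Bijective fun k : Fin n => (⟨f k k.2, hf k k.2⟩ : ↥P) := by
    refine ⟨fun i j e => ?_, fun y => ?_⟩
    · have e1 : getC T i = getC T j := by
        rw [← hCf i i.2, ← hCf j j.2]
        exact congrArg (fun z : ↥P => c.C (z : G)) e
      have hnd' := List.inj_on_of_nodup_map (nodup_of_ndTest _ _ hnd)
        (List.mem_range.2 i.2) (List.mem_range.2 j.2) (congrArg (key ps) e1)
      exact Fin.ext hnd'
    · obtain ⟨k, hk, e⟩ := hmem y y.2
      exact ⟨⟨k, hk⟩, Subtype.ext (hinj ((hCf k hk).trans e.symm))⟩
  rw [← Nat.card_eq_of_bijective _ hbij, Nat.card_fin]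

/-- A stabiliser in the centraliser is at most as large as the listed orbits allow. -/
theorem card_cent_le [Finite G] {a : G} {one : List ℕ} (h1 : c.C 1 = one) :
    ∀ (Ls : List SLev) (pss : List (List ℕ)) (fixed : List ℕ), (∀ x ∈ fixed, c.Pt x) →
      c.Full fixed (Ls.map fun L => (L.b, L.pts)) → c.AllOpts fixed Ls → c.ConsOK a a Ls →
      subB one (c.C a) Ls pss fixed = true →
      Nat.card ↥((restrict c (Subgroup.centralizer ({a} : Set G))).stab fixed) ≤
        (pss.map List.length).prod := by
  intro Ls
  induction Ls with
  | nil =>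
    intro pss fixed _ hfull _ _ hs
    cases pss with
    | cons => simp [subB] at hs
    | nil =>
      rw [List.map_nil, List.prod_nil]
      refine le_of_eq (Subgroup.card_eq_one.2 (eq_bot_iff.2 fun y hy => ?_))
      exact Subgroup.mem_bot.2 (Subtype.ext (hfull (y : G) fun x hx hxp => hy x hx hxp))
  | cons L Ls ih =>
    intro pss fixed hpt hfull hopts hcons hs
    cases pss with
    | nil => simp [subB] at hs
    | cons ps pss =>
      simp only [subB, Bool.and_eq_true, List.all_eq_true] at hs
      obtain ⟨⟨hside, hall⟩, hrec⟩ := hs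
      obtain ⟨hfl, hfull'⟩ := hfull
      obtain ⟨hol, hPb, hopts'⟩ := hopts
      simp only [side, Bool.and_eq_true] at hside
      have hsc := hside.1
      have hpt' : ∀ x ∈ L.b :: fixed, c.Pt x := fun x hx => by
        rcases List.mem_cons.1 hx with rfl | hx
        exacts [hPb, hpt x hx]
      have hcons' : c.ConsOK a a Ls := fun L' hL' => hcons L' (List.mem_cons_of_mem _ hL')
      rw [(restrict c _).card_stab fixed hPb, List.map_cons, List.prod_cons]
      refine Nat.mul_le_mul ?_ (ih pss _ hpt' hfull' hopts' hcons' hrec)
      rw [Nat.card_coe_set_eq]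
      have hsub : Set.range (fun g : ↥((restrict c (Subgroup.centralizer ({a} : Set G))).stab fixed) =>
          img ((restrict c (Subgroup.centralizer ({a} : Set G))).C g.1) L.b) ⊆ (↑ps.toFinset : Set ℕ) := by
        rintro _ ⟨g, rfl⟩
        rw [Finset.mem_coe, List.mem_toFinset]
        set y : G := ((g.1 : ↥(Subgroup.centralizer ({a} : Set G))) : G) with hy
        have hys : y ∈ c.stab fixed := fun x hx hxp => g.2 x hx hxp
        have hcomm : y * a = a * y := Subgroup.mem_centralizer_singleton_iff.1 g.1.2
        show img (c.C y) L.b ∈ ps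
        have hp := hall _ (hfl y hys)
        simp only [Bool.or_eq_true, List.elem_eq_mem, decide_eq_true_eq, Bool.not_eq_true'] at hp
        rcases hp with (hp | hp) | hp
        · exact hp
        · exfalso
          have hpass : pass (c.C a) one 0 L.b L.cn false (img (c.C y) L.b) = true := by
            unfold CfsgLib.Rigid.pass
            rw [Bool.and_eq_true]
            refine ⟨?_, rfl⟩
            cases hc : L.cn with
            | none => rfl
            | some k =>
              rw [hc] at hsc
              simp only [Bool.and_eq_true, Bool.or_eq_true, List.elem_eq_mem, decide_eq_true_eq, Nat.beq_eq] at hsc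
              obtain ⟨hkA, hkB⟩ := hcons L List.mem_cons_self k hc
              have hs' : y * a ^ k.k = a ^ k.k * y :=
                (SemiconjBy.pow_right (a := y) (x := a) (y := a) hcomm k.k)
              show (match Nat.beq k.bj L.b with
                | true => Nat.beq (img (c.C y) L.b) (img k.B (img (c.C y) L.b))
                | false => Nat.beq (img (c.C y) L.b) (img k.B (img one k.bj))) = true
              cases hb : Nat.beq k.bj L.b with
              | true =>
                rw [Nat.beq_eq] at hb
                rw [Nat.beq_eq]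
                rw [hb] at hsc
                conv_lhs => rw [← hsc.2, ← hkA, ← c.img_mul, hs', c.img_mul, hkB]
              | false =>
                have hmem' : k.bj ∈ fixed := hsc.1.resolve_left fun e => by simp [e] at hb
                rw [Nat.beq_eq]
                conv_lhs => rw [← hsc.2, ← hkA, ← c.img_mul, hs', c.img_mul, hkB]
                rw [hys k.bj hmem' (hpt _ hmem'), ← h1, c.one_img _ (hpt _ hmem')]
          rw [hpass] at hp
          exact absurd hp (by decide)
        · exfalso
          split at hp
          · exact absurd hp (by simp)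
          rename_i M hM
          obtain ⟨r, hr, er, ep⟩ := hol _ (lkup_mem hM)
          dsimp only at er ep
          have hz : r⁻¹ * y ∈ c.stab (L.b :: fixed) := (c.mem_stab_cons hPb).2
            ⟨(c.stab fixed).mul_mem ((c.stab fixed).inv_mem hr) hys, by
              rw [c.img_mul]
              conv_lhs => rw [← ep, ← er]
              exact c.img_inv_img r hPb⟩
          obtain ⟨i, hi⟩ := c.srch_sound (a := a) (b := a) Ls (L.b :: fixed) M hpt' hfull' hopts' hcons' hp
            (r⁻¹ * y) hz r er (by rw [mul_inv_cancel_left]; exact hcomm)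
          simp at hi
      exact (Set.ncard_le_ncard hsub (Finset.finite_toSet _)).trans
        ((Set.ncard_coe_finset _).le.trans (List.toFinset_card_le ps))

end CfsgLib.CoThreeEndgame
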