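import Cfsg.Agent.Lib.CoThreeEndgame.Small
import Cfsg.Agent.Lib.CoThreeEndgame.Abstract

/-!
# A copy of Co3 containing the centraliser of one of its involutions is everything
-/

set_option autoImplicit false

namespace CfsgLib.CoThreeEndgame

open Cfsg CfsgLib.Rigid Subgroup CfsgLib.HSEndgame

/-- A copy of Co3 containing a centraliser of order 2903040 of an involution is the whole group. -/
theorem eq_top_of_hom {G : Type*} [Group G] [Finite G] {t : G} (ht : orderOf t = 2)
    (hcard : Nat.card ↥(centralizer ({t} : Set G)) = 2903040) (φ : G0 →* G) (hinj : Function.Injective φ)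
    (htX : centralizer ({t} : Set G) ≤ φ.range) : φ.range = ⊤ := by
  classical
  have hord : ∀ x, orderOf (φ x) = orderOf x := orderOf_injective φ hinj
  set ψ : ↥UB →* G := φ.comp UB.subtype with hψ
  have hψinj : Function.Injective ψ := hinj.comp UB.subtype_injective
  have hbY : ∀ x : ↥UB, ψ x * φ bG = φ bG * ψ x := fun x => by
    rw [hψ, MonoidHom.comp_apply, ← map_mul, ← map_mul]
    exact congrArg φ (mem_centralizer_singleton_iff.1 x.2)
  -- the second involution is not conjugate to `t`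
  have htb : ¬ IsConj t (φ bG) := fun h => by
    obtain ⟨k, hk⟩ := isConj_iff.1 h
    let f : ↥UB →* ↥(centralizer ({t} : Set G)) :=
      (((MulAut.conj k⁻¹).toMonoidHom.comp ψ)).codRestrict _ fun x => mem_centralizer_singleton_iff.2 (by
        simp only [MonoidHom.comp_apply, MulEquiv.toMonoidHom_eq_coe, MonoidHom.coe_coe, MulAut.conj_apply,
          inv_inv]
        calc k⁻¹ * ψ x * k * t = k⁻¹ * (ψ x * (k * t * k⁻¹)) * k := by group
          _ = k⁻¹ * (φ bG * ψ x) * k := by rw [hk, hbY]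
          _ = t * (k⁻¹ * ψ x * k) := by rw [← hk]; group)
    have hf : Function.Injective f := fun x y e =>
      hψinj ((MulAut.conj k⁻¹).injective (congrArg Subtype.val e :))
    have h := card_dvd_of_injective f hf
    rw [card_UB, hcard] at h
    omega
  obtain ⟨x0, hx0⟩ := htX (mem_centralizer_singleton_iff.2 rfl : t ∈ centralizer ({t} : Set G))
  -- `t` is in the first class
  obtain ⟨g0, hg0⟩ : ∃ g, g * x0 * g⁻¹ = aG := by
    obtain ⟨g, h | h⟩ := invol_cases (x := x0) (by rw [← hord, hx0, ht])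
    · exact ⟨g, h⟩
    · exact absurd (isConj_iff.2 ⟨φ g, by rw [← hx0, ← map_inv, ← map_mul, ← map_mul, h]⟩) htb
  have hta : IsConj t (φ aG) := isConj_iff.2 ⟨φ g0, by rw [← hx0, ← map_inv, ← map_mul, ← map_mul, hg0]⟩
  have hab : ¬ IsConj aG bG := fun h => htb (hta.trans (φ.map_isConj h))
  have hof : ∀ {x : G0}, IsConj aG x → IsConj t (φ x) := fun h => hta.trans (φ.map_isConj h)
  have hto : ∀ {x : G0}, orderOf x = 2 → IsConj t (φ x) → IsConj aG x := fun {x} hx h => by
    obtain ⟨g, e | e⟩ := invol_cases hx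
    · exact IsConj.symm (isConj_iff.2 ⟨g, e⟩)
    · exact absurd (h.trans (φ.map_isConj (isConj_iff.2 ⟨g, e⟩))) htb
  have hcls : ∀ y ∈ φ.range, orderOf y = 2 →
      (∃ g ∈ φ.range, g * y * g⁻¹ = t) ∨ ∃ g ∈ φ.range, g * y * g⁻¹ = φ bG := by
    rintro _ ⟨x, rfl⟩ hy2
    obtain ⟨g, h | h⟩ := invol_cases (x := x) (by rw [← hord, hy2])
    · refine .inl ⟨φ (g0⁻¹ * g), ⟨_, rfl⟩, ?_⟩
      rw [← map_inv, ← map_mul, ← map_mul, ← hx0,
        show g0⁻¹ * g * x * (g0⁻¹ * g)⁻¹ = g0⁻¹ * (g * x * g⁻¹) * g0 by group, h, ← hg0]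
      congr 1
      group
    · exact .inr ⟨φ g, ⟨_, rfl⟩, by rw [← map_inv, ← map_mul, ← map_mul, h]⟩
  have hpre : ∀ z ∈ φ.range ⊓ centralizer ({φ bG} : Set G), ∃ x : ↥UB, ψ x = z := by
    rintro z ⟨⟨x, rfl⟩, hz⟩
    have h := mem_centralizer_singleton_iff.1 hz
    rw [← map_mul, ← map_mul] at h
    exact ⟨⟨x, mem_centralizer_singleton_iff.2 (hinj h)⟩, rfl⟩
  have hbC : centralizer ({φ bG} : Set G) ≤ φ.range := by
    refine centralizer_le ht htX ⟨_, rfl⟩ htb hcls (by rw [hord, bG_ord]) (N := 495)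
      (S := φ '' {x : G0 | x * bG = bG * x ∧ IsConj aG x}) ?_ ?_ (by norm_num) ?_ ?_
    · rw [Set.ncard_image_of_injective _ hinj]
      exact card_SU
    · rintro _ ⟨x, ⟨hx, hc⟩, rfl⟩
      exact ⟨⟨_, rfl⟩, by rw [← map_mul, ← map_mul, hx], hof hc⟩
    · intro z hz hzb hzt hzb'
      obtain ⟨x, rfl⟩ := hpre z ⟨hz, mem_centralizer_singleton_iff.2 hzb⟩
      have hc : IsConj aG (x : G0) := hto (by rw [← hord]; exact orderOf_of_isConj ht hzt) hzt
      have h := φ.map_isConj (pair hab hc)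
      rw [coe_mul, map_mul] at h
      exact htb (hzb'.trans h.symm)
    · intro D hD hbD hav σ hσ hσb M hM
      set D' : Subgroup ↥UB := D.comap ψ with hD'
      have hb : bU ∈ D' := hbD
      have hex : ∀ x : ↥D', ∃ y : ↥D', ψ (y : ↥UB) = σ * ψ (x : ↥UB) * σ⁻¹ := fun x => by
        obtain ⟨y, hy⟩ := hpre _ (hD (hσ _ x.2))
        exact ⟨⟨y, by rw [hD', mem_comap, hy]; exact hσ _ x.2⟩, hy⟩
      choose f hf using hex
      have huniq : ∀ {u v : ↥D'}, ψ (u : ↥UB) = ψ (v : ↥UB) → u = v := fun h => Subtype.ext (hψinj h)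
      let f' : ↥D' →* ↥D' :=
        { toFun := f
          map_one' := huniq (by rw [hf]; simp)
          map_mul' := fun u v => huniq (by
            simp only [hf, coe_mul, map_mul]
            group) }
      have hM' : ∀ x ∈ {x : ↥D' | ψ (x : ↥UB) ∈ M}, f' x = x⁻¹ ∧ x * ⟨bU, hb⟩ ∉ {x : ↥D' | ψ (x : ↥UB) ∈ M} := by
        intro x hx
        obtain ⟨-, h1, h2⟩ := hM _ hx
        refine ⟨huniq ((hf x).trans (by rw [h1, coe_inv, map_inv])), fun h => h2 ?_⟩
        rw [Set.mem_setOf_eq, coe_mul, map_mul] at h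
        exact h
      have hlt := small (D := D') hb (fun x hx h => hav _ hx (hof h)) f'
        (huniq ((hf ⟨bU, hb⟩).trans hσb)) _ hM'
      refine lt_of_eq_of_lt ?_ hlt
      rw [← Set.ncard_image_of_injective {x : ↥D' | ψ (x : ↥UB) ∈ M}
        (f := fun x : ↥D' => ψ (x : ↥UB)) fun u v e => huniq e]
      refine congrArg Set.ncard (Set.ext fun z => ⟨fun hz => ?_, ?_⟩)
      · obtain ⟨y, hy⟩ := hpre z (hD (hM z hz).1)
        exact ⟨⟨y, by rw [hD', mem_comap, hy]; exact (hM z hz).1⟩, by rw [Set.mem_setOf_eq, hy]; exact hz, hy⟩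
      · rintro ⟨x, hx, rfl⟩
        exact hx
  exact eq_top ht htX ⟨_, rfl⟩ htb hcls (by rw [hord, bG_ord]) hbC

/-- An embedding of Co3 whose image contains the centraliser is an isomorphism. -/
theorem isoCo3_of_hom {G : Type*} [Group G] [Finite G] {t : G} (ht : orderOf t = 2)
    (hcard : Nat.card ↥(centralizer ({t} : Set G)) = 2903040) (φ : ↥Co3.grp →* G) (hφ : Function.Injective φ)
    (htX : centralizer ({t} : Set G) ≤ φ.range) : Nonempty (G ≃* Cfsg.Spor.Co3) :=
  ⟨(MulEquiv.ofBijective φ ⟨hφ, MonoidHom.range_eq_top.1 (eq_top_of_hom ht hcard φ hφ htX)⟩).symm.trans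
    (stabEquiv Spor.leechV).symm⟩

/-- The same for an embedding of the group of the list. -/
theorem isoCo3_of_spor_hom {G : Type*} [Group G] [Finite G] {t : G} (ht : orderOf t = 2)
    (hcard : Nat.card ↥(centralizer ({t} : Set G)) = 2903040) (φ : ↥Cfsg.Spor.Co3 →* G)
    (hφ : Function.Injective φ) (htX : centralizer ({t} : Set G) ≤ φ.range) : Nonempty (G ≃* Cfsg.Spor.Co3) := by
  refine isoCo3_of_hom ht hcard (φ.comp (stabEquiv Spor.leechV).symm.toMonoidHom)
    (hφ.comp (stabEquiv Spor.leechV).symm.injective) (htX.trans ?_)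
  rintro _ ⟨x, rfl⟩
  exact ⟨stabEquiv Spor.leechV x, congrArg φ ((stabEquiv Spor.leechV).symm_apply_apply x)⟩

end CfsgLib.CoThreeEndgame
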