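import Cfsg.Agent.Lib.CoThreeEndgame.ChecksSylow
import Cfsg.Agent.Lib.CoThreeEndgame.ChecksInv
import Cfsg.Agent.Lib.Rigid.Co3Out
import Mathlib.GroupTheory.Sylow

/-!
# Co3: the two classes of involutions and the centraliser of the second one
-/

set_option autoImplicit false
set_option linter.unusedSectionVars false
set_option linter.style.haveILetI false
set_option maxRecDepth 100000

namespace CfsgLib.CoThreeEndgame

open Cfsg CfsgLib.Rigid Subgroup

/-- The group. -/
abbrev G0 : Type := ↥Co3.grp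

instance : Finite G0 := by
  haveI := finite_co0
  infer_instance

/-- The codes. -/
noncomputable def cd : Cod G0 := Co3.basis.cod Co3.grp Co3.grp_fix

theorem cd_one : cd.C 1 = one := by
  show Co3.basis.cols ((1 : G0) : Co0) = _
  rw [show ((1 : G0) : Co0) = 1 from rfl, Co3.basis.cols_one]
  exact (eqL_iff _ _).1 Co3.code_ok.2.2.2

theorem hKnown_mem : ∀ M ∈ hKnown, cd.Mem ⊤ M := by
  obtain ⟨U, hU⟩ := Co3.exists_gen Co3.autU_ok fun k => (Co3.ent_row k).1
  obtain ⟨V, hV⟩ := Co3.exists_gen Co3.autV_ok fun k => (Co3.ent_row k).2.1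
  obtain ⟨W, hW⟩ := Co3.exists_gen Co3.autW_ok fun k => (Co3.ent_row k).2.2
  obtain ⟨cu, cv, cw, -⟩ := Co3.code_ok
  simp only [eqL_iff] at cu cv cw
  intro M hM
  refine cd.slp_sound cd_one hOps _ (fun N hN => ?_) hops_ok M hM
  simp only [List.mem_cons, List.not_mem_nil, or_false] at hN
  rcases hN with rfl | rfl | rfl
  exacts [⟨U, trivial, hU.trans cu⟩, ⟨V, trivial, hV.trans cv⟩, ⟨W, trivial, hW.trans cw⟩]

theorem hlev : cd.Levels one hKnown [] hLevels := by
  refine levels_of_checks Co3.basis Co3.grp Co3.grp_fix _ _ _ hCoef [] hbase_ok ?_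
  intro i hi
  have hi' : i < 6 := hi
  interval_cases i
  exacts [hlev0_ok, hlev1_ok, hlev2_ok, hlev3_ok, hlev4_ok, hlev5_ok]

theorem hfull : cd.Full [] (hLevels.map fun L => (L.b, L.pts)) :=
  (cd.full_of_card (cd.chain_of_levels cd_one hKnown_mem _ _ hlev) (by rw [Co3.card_grp, hprod_ok])).1

theorem cd_inj : Function.Injective cd.C :=
  cd.injective_of_full (cd.chain_of_levels cd_one hKnown_mem _ _ hlev) hfull

theorem hEl_mem (is : List ℕ) : ∃ g, cd.C g = hEl is := prodIdx_mem cd_one hKnown_mem _ _ hlev is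

/-- The element of a code. -/
noncomputable def ofC (M : List ℕ) : G0 := Function.invFun cd.C M

theorem ofC_spec {M : List ℕ} (h : ∃ g, cd.C g = M) : cd.C (ofC M) = M := Function.invFun_eq h

theorem aC_mem : cd.C (ofC aC) = aC := by
  refine ofC_spec ?_
  have h := a_ok
  simp only [Bool.and_eq_true, eqL_iff] at h
  rw [← h.1.1]
  exact hEl_mem _

/-- The involution with thirty-six fixed points. -/
noncomputable def aG : G0 := ofC aC

theorem u_codes : (∀ M ∈ uKnown, cd.Mem ⊤ M) ∧ ∀ M ∈ uKnown, mulF bC M = mulF M bC := by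
  have h := ugen_ok
  simp only [Bool.and_eq_true, decide_eq_true_eq, List.all_eq_true, List.mem_range, eqL_iff] at h
  refine ⟨fun M hM => ?_, fun M hM => ?_⟩ <;>
    obtain ⟨k, hk, rfl⟩ := List.getElem_of_mem hM <;> obtain ⟨h1, h2⟩ := h.2 k hk <;>
    rw [List.getD_eq_getElem _ _ hk] at h1 h2
  · obtain ⟨g, hg⟩ := hEl_mem (uIdx.getD k [])
    exact ⟨g, trivial, hg.trans h1⟩
  · exact h2

theorem levels_u {Ls : List Level} {cs : List (List ℤ)} (hl : Ls.length = 6) (hb : baseTest cs Ls = true)
    (hok : ∀ i < 6, (Ls.getD i hLev0).ok one uKnown ((Ls.take i).map Level.b).reverse = true) :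
    cd.Levels one uKnown [] Ls := by
  refine levels_of_checks Co3.basis Co3.grp Co3.grp_fix _ _ _ cs [] hb ?_
  intro i hi
  have h := hok i (hl ▸ hi)
  rw [List.getD_eq_getElem _ _ hi] at h
  rw [List.append_nil]
  exact h

theorem ulev : cd.Levels one uKnown [] uLevels ∧ cd.Levels one uKnown [] fLevels ∧
    cd.Levels one uKnown [] eLevels := by
  have h := ulevels_ok
  simp only [List.all_eq_true, List.mem_range, Bool.and_eq_true] at h
  exact ⟨levels_u rfl ubase_ok.1 fun i hi => (h i hi).1.1, levels_u rfl ubase_ok.2.1 fun i hi => (h i hi).1.2,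
    levels_u rfl ubase_ok.2.2 fun i hi => (h i hi).2⟩

theorem uEl_mem (is : List ℕ) : ∃ g, cd.C g = uEl is := prodIdx_mem cd_one u_codes.1 _ _ ulev.1 is

theorem bC_mem : cd.C (ofC bC) = bC := by
  refine ofC_spec ?_
  have h := uelts_ok
  simp only [Bool.and_eq_true, eqL_iff] at h
  rw [← h.1.1.1.1.1.1.1.1.1.1.1.1]
  exact uEl_mem _

/-- The involution with twelve fixed points. -/
noncomputable def bG : G0 := ofC bC

theorem bG_C : cd.C bG = bC := bC_mem

theorem aG_C : cd.C aG = aC := aC_mem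

theorem aG_ord : orderOf aG = 2 := by
  have h := a_ok
  simp only [Bool.and_eq_true, Bool.not_eq_true', eqL_iff] at h
  refine orderOf_eq_prime (cd_inj ?_) fun e => ?_
  · rw [pow_two, cd.mul, aG_C, h.1.2, cd_one]
  · have h2 := h.2
    rw [← aG_C, e, cd_one] at h2
    simp at h2

theorem bG_sq : bG * bG = 1 := by
  have h := uelts_ok
  simp only [Bool.and_eq_true, Bool.not_eq_true', eqL_iff] at h
  exact cd_inj (by rw [cd.mul, bG_C, h.1.1.1.1.1.1.1.2, cd_one])

theorem bG_ne : bG ≠ 1 := fun e => by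
  have h := uelts_ok
  simp only [Bool.and_eq_true, Bool.not_eq_true'] at h
  have h2 := h.1.1.1.1.1.1.2
  rw [← bG_C, e, cd_one, (eqL_iff _ _).2 rfl] at h2
  exact absurd h2 (by decide)

theorem bG_ord : orderOf bG = 2 := orderOf_eq_prime (by rw [pow_two]; exact bG_sq) bG_ne

/-- The centraliser of the second involution. -/
noncomputable abbrev UB : Subgroup G0 := centralizer ({bG} : Set G0)

/-- The codes on the centraliser. -/
noncomputable def cu : Cod ↥UB := restrict cd UB

theorem cu_one : cu.C 1 = one := cd_one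

theorem uKnown_mem : ∀ M ∈ uKnown, cu.Mem ⊤ M := fun M hM => by
  obtain ⟨g, -, hg⟩ := u_codes.1 M hM
  refine ⟨⟨g, mem_centralizer_singleton_iff.2 (cd_inj ?_)⟩, trivial, hg⟩
  rw [cd.mul, cd.mul, bG_C, hg, u_codes.2 M hM]

theorem levels_restrict : ∀ (Ls : List Level) (l : List ℕ), cd.Levels one uKnown l Ls →
    cu.Levels one uKnown l Ls := by
  intro Ls
  induction Ls with
  | nil => intros; trivial
  | cons L Ls ih => intro l h; exact ⟨h.1, h.2.1, ih _ h.2.2⟩

theorem slevels_cn {cns : List (Option Cons)} : ∀ {Ls : List Level}, ∀ L ∈ slevels one cns Ls, L.cn ∈ cns := by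
  induction cns with
  | nil => intro Ls L hL; cases Ls <;> simp [slevels] at hL
  | cons cn cns ih =>
    intro Ls L hL
    cases Ls with
    | nil => simp [slevels] at hL
    | cons M Ms =>
      simp only [slevels, List.mem_cons] at hL
      rcases hL with rfl | hL
      · exact List.mem_cons_self
      · exact List.mem_cons_of_mem _ (ih L hL)

theorem card_UB : Nat.card ↥UB = 190080 := by
  have hchain := cu.chain_of_levels cu_one uKnown_mem _ _ (levels_restrict _ _ ulev.1)
  have h1 := (cu.prodLen_le _ [] hchain).1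
  rw [uprod_ok.1, cu.stab_nil, card_top] at h1
  refine le_antisymm ?_ h1
  have h2 := card_cent_le (c := cd) (a := bG) cd_one (slevels one bCons hLevels) (uLevels.map Level.pts) []
    (by simp) (by rw [slevels_pts _ _ _ rfl]; exact hfull) (allOpts_of_levels cd_one hKnown_mem _ _ _ hlev)
    (fun L hL k hk => by
      have hcn := slevels_cn L hL
      rw [hk] at hcn
      simp only [bCons, List.mem_append, List.mem_map, List.mem_singleton, reduceCtorEq, or_false] at hcn
      obtain ⟨M, -, e⟩ := hcn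
      obtain rfl := Option.some.inj e
      exact ⟨by rw [pow_one, bG_C], by rw [pow_one, bG_C]⟩)
    (by rw [bG_C]; exact usub_ok.1)
  rw [usub_ok.2] at h2
  refine le_trans (le_of_eq ?_) h2
  rw [(restrict cd UB).stab_nil, card_top]

theorem ufull {Ls : List Level} (h : cd.Levels one uKnown [] Ls)
    (hp : Cod.prodLen (Ls.map fun L => (L.b, L.pts)) = 190080) : cu.Full [] (Ls.map fun L => (L.b, L.pts)) :=
  (cu.full_of_card (cu.chain_of_levels cu_one uKnown_mem _ _ (levels_restrict _ _ h))
    (by rw [card_UB, hp])).1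

theorem cu_inj : Function.Injective cu.C := fun _ _ e => Subtype.ext (cd_inj e)

/-- The element of the centraliser with given indices. -/
theorem uEl_mem' (is : List ℕ) : ∃ g : ↥UB, cu.C g = uEl is :=
  prodIdx_mem cu_one uKnown_mem _ _ (levels_restrict _ _ ulev.1) is

/-- The second involution in its centraliser. -/
noncomputable def bU : ↥UB := ⟨bG, mem_centralizer_singleton_iff.2 rfl⟩

theorem bU_comm (x : ↥UB) : x * bU = bU * x := Subtype.ext (mem_centralizer_singleton_iff.1 x.2)

theorem bU_sq : bU * bU = 1 := Subtype.ext bG_sq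

theorem bU_ord : orderOf bU = 2 := (orderOf_coe bU).symm.trans bG_ord

/-- A centraliser in the centraliser, bounded by a listed group. -/
theorem cent_le {Ls : List Level} (h : cd.Levels one uKnown [] Ls)
    (hp : Cod.prodLen (Ls.map fun L => (L.b, L.pts)) = 190080) (hl : Ls.length = 6) {y : ↥UB} {z : List ℕ}
    {allowed : List (List ℕ)} (hz : cu.C (y * bU) = z)
    (hs : srch z z 0 allowed (slevels one (zCons z Ls) Ls) [] one = true)
    (hcl : ∀ M ∈ allowed, mulF z M ∈ allowed) :
    Nat.card ↥(centralizer ({y} : Set ↥UB)) ≤ allowed.length := by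
  classical
  have hall : ∀ x ∈ centralizer ({y} : Set ↥UB), cu.C x ∈ allowed := by
    intro x hx
    have hxz : x * (y * bU) = y * bU * x := by
      rw [← mul_assoc, mem_centralizer_singleton_iff.1 hx, mul_assoc, bU_comm, ← mul_assoc]
    obtain ⟨i, hi⟩ := cu.search_spec (a := y * bU) (b := y * bU) cu_one
      (by rw [slevels_pts _ _ _ (by simp [zCons, hl])]; exact ufull h hp)
      (allOpts_of_levels cu_one uKnown_mem _ _ _ (levels_restrict _ _ h))
      (fun L hL k hk => by
        have hcn := slevels_cn L hL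
        rw [hk] at hcn
        simp only [zCons, List.cons_append, List.mem_cons, List.mem_append, List.mem_map, reduceCtorEq,
          false_or, or_false, List.not_mem_nil] at hcn
        obtain ⟨M, -, e⟩ := hcn
        obtain rfl := Option.some.inj e
        exact ⟨by rw [pow_one, hz], by rw [pow_one, hz]⟩) hz hz hs x hxz
    have hpow : ∀ (n : ℕ) (w : ↥UB), cu.C w ∈ allowed → cu.C ((y * bU) ^ n * w) ∈ allowed := by
      intro n
      induction n with
      | zero => intro w hw; simpa using hw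
      | succ n ih =>
        intro w hw
        rw [pow_succ', mul_assoc, cu.mul, hz]
        exact hcl _ (ih w hw)
    have := hpow ((orderOf (y * bU) - 1) * i) _ hi
    rwa [← mul_assoc, ← pow_add, show (orderOf (y * bU) - 1) * i + i = orderOf (y * bU) * i by
      obtain ⟨m, hm⟩ := Nat.exists_eq_succ_of_ne_zero (orderOf_pos (y * bU)).ne'
      rw [hm, Nat.succ_sub_one, Nat.succ_mul],
      pow_mul, pow_orderOf_eq_one, one_pow, one_mul] at this
  have hinj : Function.Injective fun x : ↥(centralizer ({y} : Set ↥UB)) =>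
      (⟨cu.C x, List.mem_toFinset.2 (hall x x.2)⟩ : ↥allowed.toFinset) :=
    fun a b e => Subtype.ext (cu_inj (congrArg Subtype.val e :))
  have hle := Nat.card_le_card_of_injective _ hinj
  rw [Nat.card_eq_finsetCard] at hle
  exact hle.trans (List.toFinset_card_le _)

/-- Centralisers of elements of prime order `p` of the centraliser, from one of them. -/
theorem cent_dvd {p m : ℕ} (hp : p.Prime) (hp2 : p ≠ 2) (hm : (190080 : ℕ).factorization p = 1) {y : ↥UB}
    (hy : orderOf y = p) (hle : Nat.card ↥(centralizer ({y} : Set ↥UB)) ≤ m) (hmp : m < 2 * (2 * p) + 1)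
    (hmd : 2 * p ∣ m) {x : ↥UB} (hx : orderOf x = p) :
    Nat.card ↥(centralizer ({x} : Set ↥UB)) ∣ m ∧ 2 * p ∣ Nat.card ↥(centralizer ({x} : Set ↥UB)) := by
  haveI := Fact.mk hp
  have hfac : ∀ z : ↥UB, orderOf z = p → Nat.card ↥(zpowers z) = p ^ (Nat.card ↥UB).factorization p := fun z hz => by
    rw [Nat.card_zpowers, hz, card_UB, hm, pow_one]
  obtain ⟨k, hk⟩ := MulAction.exists_smul_eq ↥UB (Sylow.ofCard _ (hfac y hy)) (Sylow.ofCard _ (hfac x hx))
  have hzp : zpowers (k * y * k⁻¹) = zpowers x := by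
    have h := congrArg (fun S : Sylow p ↥UB => (S : Subgroup ↥UB)) hk
    simp only [Sylow.coe_subgroup_smul, Subgroup.pointwise_smul_def, Sylow.coe_ofCard] at h
    rw [← h]
    exact (MonoidHom.map_zpowers (MulAut.conj k).toMonoidHom y).symm
  have hcen : centralizer ({x} : Set ↥UB) = centralizer ({k * y * k⁻¹} : Set ↥UB) := by
    rw [← centralizer_closure, ← zpowers_eq_closure, ← hzp, zpowers_eq_closure, centralizer_closure]
  have hcard : Nat.card ↥(centralizer ({x} : Set ↥UB)) = Nat.card ↥(centralizer ({y} : Set ↥UB)) := by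
    rw [hcen]
    refine Nat.card_congr ((MulAut.conj k⁻¹).toEquiv.subtypeEquiv fun w => ?_)
    simp only [mem_centralizer_singleton_iff, MulEquiv.toEquiv_eq_coe, EquivLike.coe_coe, MulAut.conj_apply,
      inv_inv]
    constructor
    · intro e
      calc k⁻¹ * w * k * y = k⁻¹ * (w * (k * y * k⁻¹)) * k := by group
        _ = y * (k⁻¹ * w * k) := by rw [e]; group
    · intro e
      calc w * (k * y * k⁻¹) = k * (k⁻¹ * w * k * y) * k⁻¹ := by group
        _ = k * y * k⁻¹ * w := by rw [e]; group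
  have h2p : 2 * p ∣ Nat.card ↥(centralizer ({y} : Set ↥UB)) := by
    have hcop : (orderOf bU).Coprime (orderOf y) := by
      rw [bU_ord, hy]; exact (Nat.coprime_primes Nat.prime_two hp).2 (Ne.symm hp2)
    have hc : Commute bU y := (bU_comm y).symm
    have h := orderOf_dvd_natCard (centralizer ({y} : Set ↥UB)) (x := bU * y)
      (mem_centralizer_singleton_iff.2 (hc.mul_left (Commute.refl y)).eq)
    rwa [hc.orderOf_mul_eq_mul_orderOf_of_coprime hcop, bU_ord, hy] at h
  rw [hcard]
  refine ⟨?_, h2p⟩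
  obtain ⟨i, hi⟩ := h2p
  obtain ⟨j, hj⟩ := hmd
  have hpos : 0 < Nat.card ↥(centralizer ({y} : Set ↥UB)) := Nat.card_pos
  have hp0 := hp.pos
  have hij : i ≤ j := Nat.le_of_mul_le_mul_left (hi ▸ hj ▸ hle) (by omega)
  have hj2 : j ≤ 2 := Nat.le_of_lt_succ (Nat.lt_of_mul_lt_mul_left (a := 2 * p)
    (by rw [← hj]; nlinarith))
  have hi1 : 1 ≤ i := by
    rcases Nat.eq_zero_or_pos i with h | h
    · rw [h, mul_zero] at hi; omega
    · exact h
  rw [hi, hj]
  rcases (show j = i ∨ (i = 1 ∧ j = 2) by omega) with rfl | ⟨rfl, rfl⟩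
  · exact dvd_refl _
  · exact mul_dvd_mul_left _ (one_dvd _)

theorem fac_five : (190080 : ℕ).factorization 5 = 1 := by
  rw [show (190080 : ℕ) = 5 * 38016 by norm_num, Nat.factorization_mul (by norm_num) (by norm_num),
    Finsupp.add_apply, (show Nat.Prime 5 by norm_num).factorization_self,
    Nat.factorization_eq_zero_of_not_dvd (show ¬ 5 ∣ 38016 by norm_num)]

theorem fac_eleven : (190080 : ℕ).factorization 11 = 1 := by
  rw [show (190080 : ℕ) = 11 * 17280 by norm_num, Nat.factorization_mul (by norm_num) (by norm_num),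
    Finsupp.add_apply, (show Nat.Prime 11 by norm_num).factorization_self,
    Nat.factorization_eq_zero_of_not_dvd (show ¬ 11 ∣ 17280 by norm_num)]

theorem exists_elt {y z : List ℕ} {idx : List ℕ} {p : ℕ} (hp : p.Prime) (hidx : uEl idx = y)
    (hz : z = mulF y bC) (hpow : powC one y p = one) (hne : eqL y one = false) :
    ∃ g : ↥UB, orderOf g = p ∧ cu.C (g * bU) = z := by
  haveI := Fact.mk hp
  obtain ⟨g, hg⟩ := uEl_mem' idx
  rw [hidx] at hg
  refine ⟨g, orderOf_eq_prime (cu_inj ?_) fun e => ?_, ?_⟩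
  · rw [cu.C_pow cu_one, hg, hpow, cu_one]
  · rw [e, cu_one] at hg
    rw [← hg, (eqL_iff _ _).2 rfl] at hne
    exact Bool.noConfusion hne
  · rw [cu.mul, hg, show cu.C bU = bC from bG_C, hz]

theorem cent_five {x : ↥UB} (hx : orderOf x = 5) :
    Nat.card ↥(centralizer ({x} : Set ↥UB)) ∣ 20 ∧ 10 ∣ Nat.card ↥(centralizer ({x} : Set ↥UB)) := by
  have h := uelts_ok
  have hs := search5_ok
  simp only [Bool.and_eq_true, Bool.not_eq_true', List.all_eq_true, mem_hasB, decide_eq_true_eq] at h hs
  obtain ⟨g, hg, hgz⟩ := exists_elt (p := 5) (by norm_num) ((eqL_iff _ _).1 h.1.1.1.1.1.1.1.1.1.1.1.2)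
    ((eqL_iff _ _).1 h.1.1.1.1.1.2) ((eqL_iff _ _).1 h.1.1.1.1.2) h.1.1.1.2
  have hle := cent_le ulev.2.1 uprod_ok.2.1 rfl hgz hs.1.1 hs.1.2
  rw [hs.2] at hle
  exact cent_dvd (by norm_num) (by norm_num) fac_five hg hle (by norm_num) (by norm_num) hx

theorem cent_eleven {x : ↥UB} (hx : orderOf x = 11) :
    Nat.card ↥(centralizer ({x} : Set ↥UB)) = 22 := by
  have h := uelts_ok
  have hs := search11_ok
  simp only [Bool.and_eq_true, Bool.not_eq_true', List.all_eq_true, mem_hasB, decide_eq_true_eq] at h hs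
  obtain ⟨g, hg, hgz⟩ := exists_elt (p := 11) (by norm_num) ((eqL_iff _ _).1 h.1.1.1.1.1.1.1.1.1.2)
    ((eqL_iff _ _).1 h.1.1.2) ((eqL_iff _ _).1 h.1.2) h.2
  have hle := cent_le ulev.2.2 uprod_ok.2.2 rfl hgz hs.1.1 hs.1.2
  rw [hs.2] at hle
  have := cent_dvd (by norm_num) (by norm_num) fac_eleven hg hle (by norm_num) (by norm_num) hx
  exact Nat.dvd_antisymm this.1 this.2

/-- The normaliser of a group of prime order has order dividing that of the centraliser times `p - 1`. -/
theorem card_normalizer_dvd {H : Type*} [Group H] [Finite H] {p m : ℕ} (hp : p.Prime) {P : Subgroup H}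
    (hP : Nat.card ↥P = p) {x : H} (hx : zpowers x = P)
    (hm : Nat.card ↥(centralizer ({x} : Set H)) ∣ m) :
    Nat.card ↥(normalizer (P : Set H)) ∣ m * (p - 1) := by
  haveI := Fact.mk hp
  set φ := P.normalizerMonoidHom with hφ
  have h1 : Nat.card ↥φ.ker ∣ m := by
    refine dvd_trans ?_ hm
    refine (card_map_of_injective (K := φ.ker) (normalizer (P : Set H)).subtype_injective).symm.dvd.trans
      (card_dvd_of_le ?_)
    rintro _ ⟨w, hw, rfl⟩
    rw [SetLike.mem_coe, normalizerMonoidHom_ker, mem_subgroupOf] at hw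
    exact mem_centralizer_singleton_iff.2 (mem_centralizer_iff.1 hw x (hx ▸ mem_zpowers x)).symm
  haveI : IsCyclic ↥P := isCyclic_of_prime_card hP
  have h2 : Nat.card ↥φ.range ∣ p - 1 := by
    rw [← Nat.totient_prime hp, ← hP, ← IsCyclic.card_mulAut]
    exact card_subgroup_dvd_card _
  rw [← φ.ker.card_mul_index, index_ker]
  exact mul_dvd_mul h1 h2

theorem key_divisors : ∀ d ∈ Nat.divisors 11880, 990 ≤ d → d % 2 = 0 →
    (5 ∣ d → ∃ q ∈ [10, 20, 40, 80], d % q = 0 ∧ (d / q) % 5 = 1) →
    (11 ∣ d → ∃ q ∈ [22, 44, 110, 220], d % q = 0 ∧ (d / q) % 11 = 1) →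
      d = 1320 := by decide +kernel

end CfsgLib.CoThreeEndgame
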