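import Cfsg.Agent.Lib.CoThreeEndgame.Model

/-!
# Co3: the small subgroups of the centraliser of the second involution
-/

set_option autoImplicit false
set_option linter.unusedSectionVars false
set_option linter.style.haveILetI false
set_option maxRecDepth 100000

namespace CfsgLib.CoThreeEndgame

open Cfsg CfsgLib.Rigid Subgroup

/-- A group of prime power order goes into a Sylow subgroup. -/
theorem conj_into {H : Type*} [Group H] [Finite H] {p a : ℕ} [Fact p.Prime] {P : Subgroup H}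
    (hP : Nat.card ↥P = p ^ a) (ha : (Nat.card H).factorization p = a) {Q : Subgroup H} (hQ : IsPGroup p ↥Q) :
    ∃ k : H, ∀ x ∈ Q, k * x * k⁻¹ ∈ P := by
  obtain ⟨R, hR⟩ := hQ.exists_le_sylow
  obtain ⟨k, hk⟩ := MulAction.exists_smul_eq H R (Sylow.ofCard P (by rw [hP, ha]))
  have h := congrArg (fun S : Sylow p H => (S : Subgroup H)) hk
  simp only [Sylow.coe_subgroup_smul, Subgroup.pointwise_smul_def, Sylow.coe_ofCard] at h
  exact ⟨k, fun x hx => h ▸ ⟨x, hR hx, rfl⟩⟩

theorem pgroup_zpowers {H : Type*} [Group H] {x : H} {n : ℕ} (hx : x ^ 2 ^ n = 1) :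
    IsPGroup 2 ↥(zpowers x) := by
  obtain ⟨j, -, hj⟩ := (Nat.dvd_prime_pow Nat.prime_two).1 (orderOf_dvd_of_pow_eq_one hx)
  exact IsPGroup.of_card (n := j) (by rw [Nat.card_zpowers, hj])

theorem fac_two_u : (190080 : ℕ).factorization 2 = 7 := by
  rw [show (190080 : ℕ) = 2 ^ 7 * 1485 by norm_num, Nat.factorization_mul (by norm_num) (by norm_num),
    Finsupp.add_apply, Nat.prime_two.factorization_pow, Finsupp.single_eq_same,
    Nat.factorization_eq_zero_of_not_dvd (show ¬ 2 ∣ 1485 by norm_num)]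

theorem fac_two : (495766656000 : ℕ).factorization 2 = 10 := by
  rw [show (495766656000 : ℕ) = 2 ^ 10 * 484147125 by norm_num,
    Nat.factorization_mul (by norm_num) (by norm_num), Finsupp.add_apply, Nat.prime_two.factorization_pow,
    Finsupp.single_eq_same, Nat.factorization_eq_zero_of_not_dvd (show ¬ 2 ∣ 484147125 by norm_num)]

theorem testBit_mask : ∀ (L : List (ℕ × Bool × List ℕ)) (k : ℕ),
    (L.foldr (fun w r => (1 <<< w.1) ||| r) 0).testBit k = true → ∃ w ∈ L, w.1 = k := by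
  intro L k
  induction L with
  | nil => simp
  | cons w L ih =>
    intro h
    rw [List.foldr_cons, Nat.testBit_or, Bool.or_eq_true, Nat.one_shiftLeft, Nat.testBit_two_pow,
      decide_eq_true_eq] at h
    rcases h with h | h
    · exact ⟨w, List.mem_cons_self, h⟩
    · obtain ⟨w', hw', e⟩ := ih h
      exact ⟨w', List.mem_cons_of_mem _ hw', e⟩

/-- Every involution is conjugate to one of the two. -/
theorem invol_cases {x : G0} (hx : orderOf x = 2) : ∃ g : G0, g * x * g⁻¹ = aG ∨ g * x * g⁻¹ = bG := by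
  haveI : Fact (Nat.Prime 2) := ⟨Nat.prime_two⟩
  obtain ⟨P, hP, hmem, -⟩ := exists_list_subgroup cd_inj cd_one pa_list (fun M hM => by
    have h := pa_gens
    simp only [Bool.and_eq_true, decide_eq_true_eq, List.all_eq_true, List.mem_range, eqL_iff] at h
    obtain ⟨k, hk, rfl⟩ := List.getElem_of_mem hM
    obtain ⟨g, hg⟩ := hEl_mem (paGenIdx.getD k [])
    exact ⟨g, trivial, by rw [hg, h.2 k hk, List.getD_eq_getElem _ _ hk]⟩)
  obtain ⟨k, hk⟩ := conj_into (p := 2) (a := 10) (P := P) (by rw [hP]; norm_num)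
    (by rw [show Nat.card G0 = 495766656000 from Co3.card_grp, fac_two])
    (pgroup_zpowers (x := x) (n := 1) (by rw [pow_one, ← hx, pow_orderOf_eq_one]))
  set y := k * x * k⁻¹ with hy
  have hy2 : orderOf y = 2 := by rw [← hx]; exact MulEquiv.orderOf_eq (MulAut.conj k) x
  obtain ⟨i, hi, e⟩ := hmem y (hk x (mem_zpowers x))
  have hinv := List.all_eq_true.1 pa_invol i (List.mem_range.2 hi)
  simp only [Bool.or_eq_true, Nat.beq_eq, Bool.not_eq_true'] at hinv
  rcases hinv with (hm | h0) | hne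
  · obtain ⟨w, hw, rfl⟩ := testBit_mask paWit i hm
    have hwit := List.all_eq_true.1 pa_wit w hw
    rw [eqL_iff, ← e] at hwit
    obtain ⟨g, hg⟩ := hEl_mem w.2.2
    rw [← hg] at hwit
    rcases hb : w.2.1 with _ | _ <;> simp only [hb, Bool.false_eq_true, if_false, if_true] at hwit
    · refine ⟨g * k, .inr ?_⟩
      rw [← bG_C, ← cd.mul, ← cd.mul] at hwit
      calc g * k * x * (g * k)⁻¹ = g * y * g⁻¹ := by rw [hy]; group
        _ = bG := by rw [cd_inj hwit, mul_inv_cancel_right]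
    · refine ⟨g * k, .inl ?_⟩
      rw [← aG_C, ← cd.mul, ← cd.mul] at hwit
      calc g * k * x * (g * k)⁻¹ = g * y * g⁻¹ := by rw [hy]; group
        _ = aG := by rw [cd_inj hwit, mul_inv_cancel_right]
  · exfalso
    have h := pa_list
    simp only [listB, Bool.and_eq_true, eqL_iff] at h
    rw [h0, h.1.1.1.1.2, ← cd_one] at e
    rw [cd_inj e, orderOf_one] at hy2
    omega
  · exfalso
    rw [← e, ← cd.mul, ← pow_two, show y ^ 2 = 1 by rw [← hy2, pow_orderOf_eq_one], cd_one,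
      (eqL_iff _ _).2 rfl] at hne
    simp at hne

theorem mulF_assoc (A B C : List ℕ) : mulF (mulF A B) C = mulF A (mulF B C) := by
  simp only [mulF, List.map_map]
  exact List.map_congr_left fun p _ => img_mulF A B p

theorem s_one : sList.all (fun M => eqL (mulF M one) M) = true := by decide +kernel

/-- The listed members of the first class in the centraliser. -/
theorem s_spec {M : List ℕ} (hM : M ∈ sList) : ∃ x : ↥UB, cu.C x = M ∧ IsConj aG (x : G0) := by
  have h := s_tree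
  simp only [Bool.and_eq_true, decide_eq_true_eq, List.all_eq_true, List.mem_range, eqL_iff] at h
  obtain ⟨⟨⟨⟨⟨hlen, h0⟩, hwit⟩, -⟩, hall⟩, -⟩ := h
  obtain ⟨k, hk, rfl⟩ := List.getElem_of_mem hM
  suffices ∀ j < 495, ∃ x : ↥UB, cu.C x = sList.getD j [] ∧ IsConj aG (x : G0) by
    have h := this k (hlen ▸ hk)
    rwa [List.getD_eq_getElem _ _ hk] at h
  clear hk hM k
  intro k hk
  induction k using Nat.strong_induction_on with
  | h k ih =>
    rcases k with _ | k
    · obtain ⟨x, hx⟩ := uEl_mem' sIdx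
      obtain ⟨g, hg⟩ := hEl_mem sWit
      refine ⟨x, hx.trans h0, isConj_iff.2 ⟨g⁻¹, ?_⟩⟩
      rw [← h0, ← hx, show cu.C x = cd.C (x : G0) from rfl, ← hg, ← aG_C, ← cd.mul, ← cd.mul] at hwit
      rw [inv_inv, mul_assoc, ← cd_inj hwit, inv_mul_cancel_left]
    · obtain ⟨⟨hle, hlt⟩, he⟩ := hall k (by omega)
      obtain ⟨x, hx, hc⟩ := ih _ (Nat.lt_succ_of_le hle) (by omega)
      obtain ⟨u, -, hu⟩ := uKnown_mem _ (List.getElem_mem hlt)
      refine ⟨u * x * u⁻¹, ?_, hc.trans (isConj_iff.2 ⟨(u : G0), by push_cast; rfl⟩)⟩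
      rw [List.getD_eq_getElem _ _ hlt, ← hu, ← hx, ← cu.mul] at he
      rw [cu.mul, he, mulF_assoc, ← cu.mul, mul_inv_cancel, cu_one]
      refine (eqL_iff _ _).1 (List.all_eq_true.1 s_one _ ?_)
      rw [List.getD_eq_getElem _ _ (show k + 1 < sList.length by omega)]
      exact List.getElem_mem _

theorem card_SU : 495 ≤ {x : G0 | x * bG = bG * x ∧ IsConj aG x}.ncard := by
  have h := s_tree
  simp only [Bool.and_eq_true, decide_eq_true_eq] at h
  have hlen := h.1.1.1.1.1
  have hnd := nodup_of_ndTest _ _ h.2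
  choose f hf hc using fun i : Fin sList.length => s_spec (List.getElem_mem i.2)
  have hinj : Function.Injective fun i => ((f i : ↥UB) : G0) := fun i j e => by
    have e' : sList[(i : ℕ)] = sList[(j : ℕ)] := by rw [← hf i, ← hf j, Subtype.ext e]
    exact Fin.ext (((List.Nodup.of_map _ hnd).getElem_inj_iff).1 e')
  calc 495 = Nat.card (Fin sList.length) := by rw [Nat.card_fin, hlen]
    _ = (Set.range fun i => ((f i : ↥UB) : G0)).ncard := (Set.ncard_range_of_injective hinj).symm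
    _ ≤ _ := Set.ncard_le_ncard (by
      rintro _ ⟨i, rfl⟩
      exact ⟨mem_centralizer_singleton_iff.1 (f i).2, hc i⟩) (Set.toFinite _)

theorem pu_spec : ∃ P : Subgroup ↥UB, Nat.card ↥P = 2 ^ 7 ∧ ∀ y ∈ P, ∃ k < 128, cu.C y = getC puChunks k := by
  obtain ⟨P, hP, hmem, -⟩ := exists_list_subgroup cu_inj cu_one pu_list (fun M hM => by
    have h := pu_gens
    simp only [Bool.and_eq_true, decide_eq_true_eq, List.all_eq_true, List.mem_range, eqL_iff] at h
    obtain ⟨k, hk, rfl⟩ := List.getElem_of_mem hM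
    obtain ⟨g, hg⟩ := uEl_mem' (puGenIdx.getD k [])
    exact ⟨g, trivial, by rw [hg, h.2 k hk, List.getD_eq_getElem _ _ hk]⟩)
  exact ⟨P, by rw [hP]; norm_num, hmem⟩

/-- Bringing a group of two-power order into the listed one. -/
theorem into_pu {Q : Subgroup ↥UB} (hQ : IsPGroup 2 ↥Q) :
    ∃ k : ↥UB, ∀ x ∈ Q, ∃ i < 128, cu.C (k * x * k⁻¹) = getC puChunks i := by
  haveI : Fact (Nat.Prime 2) := ⟨Nat.prime_two⟩
  obtain ⟨P, hP, hmem⟩ := pu_spec
  obtain ⟨k, hk⟩ := conj_into hP (by rw [card_UB, fac_two_u]) hQ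
  exact ⟨k, fun x hx => hmem _ (hk x hx)⟩

theorem isConj_conj (k x : ↥UB) : IsConj (x : G0) ((k * x * k⁻¹ : ↥UB) : G0) :=
  isConj_iff.2 ⟨(k : G0), by push_cast; rfl⟩

theorem sq_facts {i : ℕ} (hi : i < 128) {g : ↥UB} (e : cu.C g = getC puChunks i) (hg : g * g ≠ 1)
    (h4 : g * g * (g * g) = 1) : IsConj aG ((g * g : ↥UB) : G0) ∨ IsConj aG ((g * g * bU : ↥UB) : G0) := by
  have h := List.all_eq_true.1 pu_fact i (List.mem_range.2 hi)
  have hne : eqL (mulF (getC puChunks i) (getC puChunks i)) one = false := by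
    rw [Bool.eq_false_iff]
    intro h1
    rw [eqL_iff, ← e, ← cu.mul, ← cu_one] at h1
    exact hg (cu_inj h1)
  simp only [factU, hne] at h
  rw [← e, ← cu.mul, ← cu.mul, h4, cu_one, (eqL_iff _ _).2 rfl, show bC = cu.C bU from bG_C.symm,
    ← cu.mul] at h
  simp only [Bool.not_true, Bool.false_or, Bool.or_eq_true, mem_hasB] at h
  rcases h with h | h <;> obtain ⟨y, hy, hc⟩ := s_spec h <;> rw [← cu_inj hy]
  exacts [.inl hc, .inr hc]

theorem invol_facts {i : ℕ} (hi : i < 128) {g : ↥UB} (e : cu.C g = getC puChunks i) (hg1 : g ≠ 1)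
    (hg : g * g = 1) :
    ((cu.C g ∈ sList ∨ IsConj bG (g : G0)) ∧ (cu.C g ∈ sList → IsConj bG ((g * bU : ↥UB) : G0))) ∧
      (g = bU ∨ cu.C g ∈ sList ∨ cu.C (g * bU) ∈ sList ∨ cu.C g ∈ wList) := by
  have h := List.all_eq_true.1 pu_fact i (List.mem_range.2 hi)
  have he : eqL (mulF (getC puChunks i) (getC puChunks i)) one = true := by
    rw [eqL_iff, ← e, ← cu.mul, hg, cu_one]
  have hne : eqL (cu.C g) one = false := by
    rw [Bool.eq_false_iff]
    intro h1
    rw [eqL_iff, ← cu_one] at h1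
    exact hg1 (cu_inj h1)
  have hwit : ∀ w ∈ puWit, ∀ y : ↥UB, cu.C y = getC puChunks w.1 → IsConj bG (y : G0) := fun w hw y hy => by
    have h := List.all_eq_true.1 pu_wit w hw
    obtain ⟨u, hu⟩ := hEl_mem w.2
    rw [eqL_iff, ← hy, show cu.C y = cd.C (y : G0) from rfl, ← hu, ← bG_C, ← cd.mul, ← cd.mul] at h
    exact isConj_iff.2 ⟨u⁻¹, by rw [inv_inv, mul_assoc, ← cd_inj h, inv_mul_cancel_left]⟩
  simp only [factU, he] at h
  rw [← e, show bC = cu.C bU from bG_C.symm, ← cu.mul] at h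
  simp only [hne, Bool.false_or, Bool.and_eq_true, Bool.or_eq_true, Bool.not_eq_true', mem_hasB, eqL_iff,
    List.any_eq_true, List.elem_eq_mem, decide_eq_true_eq, List.mem_map] at h
  obtain ⟨⟨h1, h2⟩, h3⟩ := h
  refine ⟨⟨h1.imp_right ?_, fun hs => ?_⟩, ?_⟩
  · rintro ⟨w, hw, rfl⟩
    exact hwit w hw g e
  · rcases h2 with h2 | ⟨w, hw, hwe⟩
    · rw [mem_hasB.2 hs] at h2
      simp at h2
    · exact hwit w hw _ hwe.symm
  · rcases h3 with ((h3 | h3) | h3) | h3
    exacts [.inl (cu_inj h3), .inr (.inl h3), .inr (.inr (.inl h3)), .inr (.inr (.inr h3))]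

/-- The product of a member of the first class with the central involution lies in the second class. -/
theorem pair (hab : ¬ IsConj aG bG) {x : ↥UB} (hx : IsConj aG (x : G0)) :
    IsConj bG ((x * bU : ↥UB) : G0) := by
  obtain ⟨h, hh⟩ := isConj_iff.1 hx
  have hox : orderOf x = 2 := by
    rw [← orderOf_coe, ← hh, ← aG_ord]
    exact MulEquiv.orderOf_eq (MulAut.conj h) aG
  obtain ⟨k, hk⟩ := into_pu (pgroup_zpowers (x := x) (n := 1) (by rw [pow_one, ← hox, pow_orderOf_eq_one]))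
  obtain ⟨i, hi, e⟩ := hk x (mem_zpowers x)
  have hxk : IsConj aG ((k * x * k⁻¹ : ↥UB) : G0) := hx.trans (isConj_conj k x)
  have hx2 : x * x = 1 := by rw [← pow_two, ← hox, pow_orderOf_eq_one]
  obtain ⟨⟨h1, h2⟩, -⟩ := invol_facts hi e
    (fun h1 => by
      have : x = 1 := by simpa using conj_eq_one_iff.1 h1
      rw [this, orderOf_one] at hox
      omega)
    (by rw [show k * x * k⁻¹ * (k * x * k⁻¹) = k * (x * x) * k⁻¹ by group, hx2]; group)
  have hs := h1.resolve_right fun hb => hab (hxk.trans hb.symm)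
  refine (h2 hs).trans (IsConj.symm ?_)
  rw [show k * x * k⁻¹ * bU = k * (x * bU) * k⁻¹ by
    rw [mul_assoc (k * x), bU_comm k⁻¹]; group]
  exact isConj_conj k (x * bU)

/-- Elements of order four of a subgroup avoiding the first class do not exist. -/
theorem sq_eq_one {D : Subgroup ↥UB} (hb : bU ∈ D) (hav : ∀ x ∈ D, ¬ IsConj aG (x : G0)) {x : ↥UB} (hx : x ∈ D)
    (h4 : x * x * (x * x) = 1) : x * x = 1 := by
  by_contra hne
  obtain ⟨k, hk⟩ := into_pu (pgroup_zpowers (x := x) (n := 2) (by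
    rw [show 2 ^ 2 = 2 + 2 by norm_num, pow_add, pow_two, h4]))
  obtain ⟨i, hi, e⟩ := hk x (mem_zpowers x)
  have e2 : k * x * k⁻¹ * (k * x * k⁻¹) = k * (x * x) * k⁻¹ := by group
  rcases sq_facts hi e (by rw [e2]; exact fun h => hne (conj_eq_one_iff.1 h))
    (by rw [e2, show k * (x * x) * k⁻¹ * (k * (x * x) * k⁻¹) = k * (x * x * (x * x)) * k⁻¹ by group, h4]; group)
    with h | h
  · rw [e2] at h
    exact hav _ (mul_mem hx hx) (h.trans (isConj_conj k (x * x)).symm)
  · rw [e2, show k * (x * x) * k⁻¹ * bU = k * (x * x * bU) * k⁻¹ by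
      rw [mul_assoc (k * (x * x)), bU_comm k⁻¹]; group] at h
    exact hav _ (mul_mem (mul_mem hx hx) hb) (h.trans (isConj_conj k (x * x * bU)).symm)

/-- A subgroup of two-power order avoiding the first class has order at most eight. -/
theorem card_two_le {D : Subgroup ↥UB} (hb : bU ∈ D)
    (hav : ∀ x ∈ D, ¬ IsConj aG (x : G0)) {Q : Subgroup ↥UB} (hQD : Q ≤ D) (hQ : IsPGroup 2 ↥Q) :
    Nat.card ↥Q ≤ 8 := by
  classical
  have hexp : ∀ z ∈ Q, z * z = 1 := by
    intro z hz
    obtain ⟨n, hn⟩ := hQ ⟨z, hz⟩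
    have hn' : z ^ 2 ^ n = 1 := congrArg Subtype.val hn
    clear hn
    induction n with
    | zero => rw [pow_zero, pow_one] at hn'; rw [hn', mul_one]
    | succ n ih =>
      rcases n with _ | n
      · rw [pow_one, pow_two] at hn'; exact hn'
      refine ih ?_
      have h := sq_eq_one hb hav (D := D) (pow_mem (hQD hz) (2 ^ n)) (by
        rw [← pow_add, ← pow_add, ← hn']; ring_nf)
      rw [← pow_add] at h
      rw [← h]; ring_nf
  have hinv : ∀ z ∈ Q, ∀ r : ↥UB, r * z = 1 → r = z := fun z hz r h => by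
    calc r = r * (z * z) := by rw [hexp z hz, mul_one]
      _ = z := by rw [← mul_assoc, h, one_mul]
  have hinvb : ∀ z ∈ Q, ∀ r : ↥UB, r * z = bU → r = z * bU := fun z hz r h => by
    calc r = r * (z * z) := by rw [hexp z hz, mul_one]
      _ = z * bU := by rw [← mul_assoc, h, bU_comm]
  obtain ⟨k, hk⟩ := into_pu hQ
  set c : ↥UB → List ℕ := fun x => cu.C (k * x * k⁻¹) with hc
  have hmul : ∀ x y, mulF (c x) (c y) = c (x * y) := fun x y => by
    simp only [hc, ← cu.mul]; congr 1; group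
  have hcinj : ∀ x y, c x = c y → x = y := fun x y h => by simpa using cu_inj h
  have hcb : bC = c bU := by
    simp only [hc]
    rw [bU_comm k, mul_inv_cancel_right]
    exact bG_C.symm
  have hw : ∀ z ∈ Q, z ≠ 1 → z ≠ bU → c z ∈ wList := by
    intro z hz h1 hb'
    obtain ⟨i, hi, e⟩ := hk z hz
    obtain ⟨-, h⟩ := invol_facts hi e (fun h => h1 (conj_eq_one_iff.1 h))
      (by rw [show k * z * k⁻¹ * (k * z * k⁻¹) = k * (z * z) * k⁻¹ by group, hexp z hz]; group)
    rcases h with h | h | h | h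
    · exact absurd (hcinj _ _ (show c z = c bU by rw [← hcb]; simp only [hc]; rw [h]; exact bG_C)) hb'
    · obtain ⟨y, hy, hya⟩ := s_spec h
      rw [cu_inj hy] at hya
      exact absurd (hya.trans (isConj_conj k z).symm) (hav _ (hQD hz))
    · obtain ⟨y, hy, hya⟩ := s_spec h
      rw [cu_inj hy, show k * z * k⁻¹ * bU = k * (z * bU) * k⁻¹ by rw [mul_assoc (k * z), bU_comm k⁻¹]; group]
        at hya
      exact absurd (hya.trans (isConj_conj k (z * bU)).symm) (hav _ (mul_mem (hQD hz) hb))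
    · exact h
  have hcomm : ∀ x ∈ Q, ∀ y ∈ Q, comB (c x) (c y) = true := by
    intro x hx y hy
    rw [comB, eqL_iff, hmul, hmul]
    congr 1
    calc x * y = y * y * (x * y) * (x * x) := by rw [hexp x hx, hexp y hy, one_mul, mul_one]
      _ = y * (y * x * (y * x)) * x := by group
      _ = y * x := by rw [hexp _ (mul_mem hy hx), mul_one]
  have hsub : ∃ x y : ↥UB, ∀ r ∈ Q, r ∈ [1, bU, x, y, x * y, x * bU, y * bU, x * y * bU] := by
    by_cases h1 : ∀ r ∈ Q, r = 1 ∨ r = bU
    · exact ⟨1, 1, fun r hr => by rcases h1 r hr with h | h <;> simp [h]⟩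
    simp only [not_forall, not_or, exists_prop] at h1
    obtain ⟨x, hx, hx1, hxb⟩ := h1
    by_cases h2 : ∀ r ∈ Q, r = 1 ∨ r = bU ∨ r = x ∨ r = x * bU
    · exact ⟨x, 1, fun r hr => by rcases h2 r hr with h | h | h | h <;> simp [h]⟩
    simp only [not_forall, not_or, exists_prop] at h2
    obtain ⟨y, hy, hy1, hyb, hyx, hyxb⟩ := h2
    refine ⟨x, y, fun r hr => ?_⟩
    by_contra hr'
    simp only [List.mem_cons, List.not_mem_nil, or_false, not_or] at hr'
    obtain ⟨r1, rb, rx, ry, rxy, rxb, ryb, rxyb⟩ := hr'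
    have hq : ∀ z ∈ Q, ∀ u ∈ Q, u ≠ z → u ≠ z * bU → c (u * z) ∈ wList := fun z hz u hu n1 n2 =>
      hw _ (mul_mem hu hz) (fun h => n1 (hinv z hz u h)) fun h => n2 (hinvb z hz u h)
    have hxy : c (x * y) ∈ wList := by
      have h := hq x hx y hy hyx hyxb
      have e := hcomm x hx y hy
      rw [comB, eqL_iff, hmul, hmul] at e
      rwa [e]
    have h := w_ok
    simp only [List.all_eq_true, List.mem_filter, Bool.or_eq_true, Bool.not_eq_true', eqL_iff,
      Bool.and_eq_false_iff] at h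
    have h := h (c x) (hw x hx hx1 hxb) (c y) ⟨hw y hy hy1 hyb, hcomm x hx y hy⟩
    rcases h with ((h | h) | h) | h
    · exact hyx (hcinj _ _ h)
    · rw [hcb, hmul] at h
      exact hyxb (hcinj _ _ h)
    · rw [hmul, mem_hasB.2 hxy] at h
      simp at h
    · rcases h (c r) ⟨hw r hr r1 rb, hcomm x hx r hr⟩ with (((((( h | h) | h) | h) | h) | h) | h) | h
      · rw [hcomm y hy r hr] at h; simp at h
      · exact rx (hcinj _ _ h)
      · exact ry (hcinj _ _ h)
      · rw [hmul] at h; exact rxy (hcinj _ _ h)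
      · rw [hcb, hmul] at h; exact rxb (hcinj _ _ h)
      · rw [hcb, hmul] at h; exact ryb (hcinj _ _ h)
      · rw [hcb, hmul, hmul] at h; exact rxyb (hcinj _ _ h)
      · rw [hmul x y, hmul, hmul, hmul, mem_hasB.2 (hq x hx r hr rx rxb), mem_hasB.2 (hq y hy r hr ry ryb),
          mem_hasB.2 (hq _ (mul_mem hx hy) r hr rxy rxyb)] at h
        simp at h
  obtain ⟨x, y, hall⟩ := hsub
  refine (Nat.card_le_card_of_injective (fun r : ↥Q =>
    (⟨r, List.mem_toFinset.2 (hall r r.2)⟩ : ↥[1, bU, x, y, x * y, x * bU, y * bU, x * y * bU].toFinset))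
      fun u v e => Subtype.ext (congrArg Subtype.val e :)).trans ?_
  rw [Nat.card_eq_finsetCard]
  exact List.toFinset_card_le _

/-- The Sylow normaliser at a prime dividing the order to the first power. -/
theorem sylow_norm {p m : ℕ} (hp : p.Prime) (hp2 : p ≠ 2) (hfac : (190080 : ℕ).factorization p = 1)
    (hcent : ∀ x : ↥UB, orderOf x = p → Nat.card ↥(centralizer ({x} : Set ↥UB)) ∣ m) {D : Subgroup ↥UB}
    (hb : bU ∈ D) (hpD : p ∣ Nat.card ↥D) :
    ∃ q, q ∣ m * (p - 1) ∧ 2 * p ∣ q ∧ q ∣ Nat.card ↥D ∧ (Nat.card ↥D / q) % p = 1 := by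
  haveI := Fact.mk hp
  have hne : Nat.card ↥D ≠ 0 := Nat.card_pos.ne'
  obtain ⟨P⟩ := (inferInstance : Nonempty (Sylow p ↥D))
  have hP : Nat.card (P : Subgroup ↥D) = p := by
    rw [P.card_eq_multiplicity]
    have h1 : (Nat.card ↥D).factorization p ≤ (190080 : ℕ).factorization p :=
      (Nat.factorization_le_iff_dvd hne (by norm_num)).2 (card_UB ▸ card_subgroup_dvd_card D) p
    have h2 := hp.factorization_pos_of_dvd hne hpD
    rw [show (Nat.card ↥D).factorization p = 1 by omega, pow_one]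
  obtain ⟨x0, hx0⟩ := exists_prime_orderOf_dvd_card' (G := (P : Subgroup ↥D)) p (by rw [hP])
  set x : ↥D := (x0 : ↥D) with hx
  have hox : orderOf x = p := by rw [hx, orderOf_coe, hx0]
  have hgen : zpowers x = (P : Subgroup ↥D) := eq_of_le_of_card_ge (zpowers_le.2 x0.2)
    (by rw [Nat.card_zpowers, hox, hP])
  have hC : Nat.card ↥(centralizer ({x} : Set ↥D)) ∣ m := by
    refine ((card_map_of_injective (K := centralizer ({x} : Set ↥D)) D.subtype_injective).symm.dvd.trans
      (card_dvd_of_le ?_)).trans (hcent (x : ↥UB) (by rw [orderOf_coe, hox]))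
    rintro _ ⟨w, hw, rfl⟩
    exact mem_centralizer_singleton_iff.2 (congrArg Subtype.val (mem_centralizer_singleton_iff.1 hw))
  set N := normalizer ((P : Subgroup ↥D) : Set ↥D) with hN
  have hbN : (⟨bU, hb⟩ : ↥D) ∈ N := mem_normalizer_iff.2 fun y => by
    rw [show (⟨bU, hb⟩ : ↥D) * y * (⟨bU, hb⟩ : ↥D)⁻¹ = y from Subtype.ext (by
      push_cast; rw [← bU_comm, mul_inv_cancel_right])]
  have hxN : x ∈ N := le_normalizer x0.2
  have hc : Commute (⟨bU, hb⟩ : ↥D) x := Subtype.ext (bU_comm (x : ↥UB)).symm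
  have h2p : 2 * p ∣ Nat.card ↥N := by
    have h := orderOf_dvd_natCard N (mul_mem hbN hxN)
    have hob : orderOf (⟨bU, hb⟩ : ↥D) = 2 := by rw [Subgroup.orderOf_mk, bU_ord]
    rwa [hc.orderOf_mul_eq_mul_orderOf_of_coprime
      (by rw [hob, hox]; exact (Nat.coprime_primes Nat.prime_two hp).2 (Ne.symm hp2)), hob, hox] at h
  refine ⟨Nat.card ↥N, card_normalizer_dvd hp hP hgen hC, h2p, card_subgroup_dvd_card N, ?_⟩
  have hidx : N.index = Nat.card ↥D / Nat.card ↥N := by
    rw [← N.card_mul_index, Nat.mul_div_cancel_left _ Nat.card_pos]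
  have hs := card_sylow_modEq_one p ↥D
  rw [P.card_eq_index_normalizer] at hs
  have hs' : N.index % p = 1 % p := hs
  rwa [hidx, Nat.mod_eq_of_lt hp.one_lt] at hs'

theorem div_five : ∀ q ∈ Nat.divisors 80, 10 ∣ q → q ∈ [10, 20, 40, 80] := by decide +kernel

theorem div_eleven : ∀ q ∈ Nat.divisors 220, 22 ∣ q → q ∈ [22, 44, 110, 220] := by decide +kernel

theorem div_big : ∀ n ∈ Nat.divisors 1320, 660 ≤ n → 11 ∣ n := by decide +kernel

/-- The order of a large subgroup avoiding the first class. -/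
theorem card_big {D : Subgroup ↥UB} (hb : bU ∈ D)
    (hav : ∀ x ∈ D, ¬ IsConj aG (x : G0)) (hbig : 990 ≤ Nat.card ↥D) : Nat.card ↥D = 1320 := by
  haveI : Fact (Nat.Prime 2) := ⟨Nat.prime_two⟩
  have hne : Nat.card ↥D ≠ 0 := by omega
  have hdvd : Nat.card ↥D ∣ 190080 := card_UB ▸ card_subgroup_dvd_card D
  have h16 : ¬ 16 ∣ Nat.card ↥D := fun h16 => by
    obtain ⟨Q⟩ := (inferInstance : Nonempty (Sylow 2 ↥D))
    have h := card_two_le hb hav (Q := (Q : Subgroup ↥D).map D.subtype)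
      (map_subtype_le _) (Q.2.map _)
    rw [card_map_of_injective D.subtype_injective, Q.card_eq_multiplicity] at h
    have h4 : 4 ≤ (Nat.card ↥D).factorization 2 :=
      (Nat.prime_two.pow_dvd_iff_le_factorization hne).1 (by simpa using h16)
    have := Nat.pow_le_pow_right (show 0 < 2 by norm_num) h4
    omega
  have heven : 2 ∣ Nat.card ↥D := bU_ord ▸ (orderOf_dvd_natCard D hb :)
  have hdvd' : Nat.card ↥D ∣ 11880 := by
    obtain ⟨a, c, ha, hc, e⟩ := Nat.dvd_mul.1 (show Nat.card ↥D ∣ 2 ^ 7 * 1485 by norm_num; exact hdvd)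
    obtain ⟨j, -, rfl⟩ := (Nat.dvd_prime_pow Nat.prime_two).1 ha
    have hj : j ≤ 3 := by
      by_contra hj
      exact h16 (e ▸ Dvd.dvd.mul_right (pow_dvd_pow 2 (show 4 ≤ j by omega)) c)
    exact e ▸ (show (2 : ℕ) ^ j * c ∣ 2 ^ 3 * 1485 from mul_dvd_mul (pow_dvd_pow 2 hj) hc)
  refine key_divisors _ (Nat.mem_divisors.2 ⟨hdvd', by norm_num⟩) hbig (Nat.mod_eq_zero_of_dvd heven)
    (fun h => ?_) fun h => ?_
  · obtain ⟨q, h1, h2, h3, h4⟩ := sylow_norm (p := 5) (m := 20) (by norm_num) (by norm_num) fac_five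
      (fun x hx => (cent_five hx).1) hb h
    exact ⟨q, div_five q (Nat.mem_divisors.2 ⟨h1, by norm_num⟩) h2, Nat.mod_eq_zero_of_dvd h3, h4⟩
  · obtain ⟨q, h1, h2, h3, h4⟩ := sylow_norm (p := 11) (m := 22) (by norm_num) (by norm_num) fac_eleven
      (fun x hx => (cent_eleven hx).dvd) hb h
    exact ⟨q, div_eleven q (Nat.mem_divisors.2 ⟨h1, by norm_num⟩) h2, Nat.mod_eq_zero_of_dvd h3, h4⟩

/-- An automorphism of a subgroup avoiding the first class inverts fewer than 495 elements, no two differing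
by the central involution. -/
theorem small {D : Subgroup ↥UB} (hb : bU ∈ D)
    (hav : ∀ x ∈ D, ¬ IsConj aG (x : G0)) (f : ↥D →* ↥D) (hfb : f ⟨bU, hb⟩ = ⟨bU, hb⟩) (M : Set ↥D)
    (hM : ∀ x ∈ M, f x = x⁻¹ ∧ x * ⟨bU, hb⟩ ∉ M) : M.ncard < 495 := by
  classical
  by_contra hMbig
  set bD : ↥D := ⟨bU, hb⟩ with hbD
  have hbc : ∀ z : ↥D, z * bD = bD * z := fun z => Subtype.ext (bU_comm (z : ↥UB))
  have hb2 : bD * bD = 1 := Subtype.ext bU_sq
  set M' : Set ↥D := M ∪ (fun z => z * bD) '' M with hM'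
  have hinv : ∀ z ∈ M', f z = z⁻¹ := by
    rintro z (hz | ⟨w, hw, rfl⟩)
    · exact (hM z hz).1
    · rw [map_mul, (hM w hw).1, hfb, mul_inv_rev, inv_eq_of_mul_eq_one_right hb2, hbc]
  have hM2 : M'.ncard = M.ncard + M.ncard := by
    rw [hM', Set.ncard_union_eq ?_ (Set.toFinite _) (Set.toFinite _),
      Set.ncard_image_of_injective _ (mul_left_injective bD)]
    rw [Set.disjoint_right]
    rintro _ ⟨w, hw, rfl⟩
    exact (hM w hw).2
  have hle : M'.ncard ≤ Nat.card ↥D := by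
    rw [← Set.ncard_univ]
    exact Set.ncard_le_ncard (Set.subset_univ _) (Set.toFinite _)
  have hcard := card_big hb hav (by omega)
  obtain ⟨x, hxM, hx⟩ : ∃ x ∈ M', x ∉ ({1, bD} : Set ↥D) := by
    by_contra h
    simp only [not_exists, not_and, not_not] at h
    have h2 : ({1, bD} : Set ↥D).ncard ≤ 2 := by
      refine (Set.ncard_insert_le _ _).trans ?_
      rw [Set.ncard_singleton]
    have := Set.ncard_le_ncard h (Set.toFinite _)
    omega
  simp only [Set.mem_insert_iff, Set.mem_singleton_iff, not_or] at hx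
  set B : Set ↥D := (fun z => x⁻¹ * z) '' M' with hB
  have hA : 660 ≤ (M' ∩ B).ncard := by
    have h1 := Set.ncard_union_add_ncard_inter M' B (Set.toFinite _) (Set.toFinite _)
    have h2 : B.ncard = M'.ncard := Set.ncard_image_of_injective _ (mul_right_injective x⁻¹)
    have h3 : (M' ∪ B).ncard ≤ Nat.card ↥D := by
      rw [← Set.ncard_univ]
      exact Set.ncard_le_ncard (Set.subset_univ _) (Set.toFinite _)
    omega
  have hAC : M' ∩ B ⊆ (centralizer ({x} : Set ↥D) : Set ↥D) := by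
    rintro y ⟨hy, z, hz, rfl⟩
    have h := hinv z hz
    have hy' := hinv _ hy
    rw [map_mul, map_inv, hinv x hxM, h, mul_inv_rev, inv_inv] at hy'
    refine mem_centralizer_singleton_iff.2 ?_
    have e : z * x = x * z := (Commute.inv_right_iff.1 hy').eq.symm
    calc x⁻¹ * z * x = x⁻¹ * (z * x) := by group
      _ = x * (x⁻¹ * z) := by rw [e]; group
  set C := centralizer ({x} : Set ↥D) with hC
  have hC11 : 11 ∣ Nat.card ↥C := div_big _
    (Nat.mem_divisors.2 ⟨hcard ▸ card_subgroup_dvd_card C, by norm_num⟩)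
    (by
      rw [← SetLike.coe_sort_coe, Nat.card_coe_set_eq]
      exact hA.trans (Set.ncard_le_ncard hAC (Set.toFinite _)))
  haveI : Fact (Nat.Prime 11) := ⟨by norm_num⟩
  obtain ⟨y0, hy0⟩ := exists_prime_orderOf_dvd_card' (G := ↥C) 11 hC11
  set y : ↥UB := ((y0 : ↥D) : ↥UB) with hy
  have hoy : orderOf y = 11 := by rw [hy, orderOf_coe, orderOf_coe, hy0]
  have hxy : (x : ↥UB) * y = y * x :=
    (congrArg Subtype.val (mem_centralizer_singleton_iff.1 y0.2)).symm
  have hcy : Commute y bU := bU_comm y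
  have hoyb : orderOf (y * bU) = 22 := by
    rw [hcy.orderOf_mul_eq_mul_orderOf_of_coprime (by rw [hoy, bU_ord]; norm_num), hoy, bU_ord]
  have hgen : zpowers (y * bU) = centralizer ({y} : Set ↥UB) := by
    refine eq_of_le_of_card_ge (zpowers_le.2 (mem_centralizer_singleton_iff.2 ?_))
      (by rw [cent_eleven hoy, Nat.card_zpowers, hoyb])
    rw [mul_assoc, ← bU_comm y]
  obtain ⟨i, hi⟩ := mem_zpowers_iff.1 (hgen.ge (mem_centralizer_singleton_iff.2 hxy :
    (x : ↥UB) ∈ centralizer ({y} : Set ↥UB)))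
  have hi11 : ¬ (11 : ℤ) ∣ i := by
    rintro ⟨j, rfl⟩
    have e : (y * bU) ^ (11 : ℤ) = bU := by
      rw [hcy.mul_zpow, show y ^ (11 : ℤ) = 1 by
          rw [show (11 : ℤ) = ((11 : ℕ) : ℤ) by rfl, zpow_natCast, ← hoy, pow_orderOf_eq_one],
        one_mul, show (11 : ℤ) = 2 * 5 + 1 by norm_num, zpow_add, zpow_mul, zpow_two, bU_sq, one_zpow,
        one_mul, zpow_one]
    rw [zpow_mul, e] at hi
    rcases Int.even_or_odd' j with ⟨l, rfl | rfl⟩
    · rw [zpow_mul, zpow_two, bU_sq, one_zpow] at hi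
      exact hx.1 (Subtype.ext hi.symm)
    · rw [zpow_add, zpow_mul, zpow_two, bU_sq, one_zpow, one_mul, zpow_one] at hi
      exact hx.2 (Subtype.ext hi.symm)
  have hx2 : (x : ↥UB) * x = y ^ (2 * i) := by
    rw [← hi, ← zpow_add, hcy.mul_zpow, ← two_mul, zpow_mul bU, zpow_two, bU_sq, one_zpow, mul_one]
  have hox2 : orderOf ((x : ↥UB) * x) = 11 := by
    refine orderOf_eq_prime ?_ fun h => hi11 ?_
    · rw [hx2, ← zpow_natCast, ← zpow_mul, mul_comm, zpow_mul, zpow_natCast, ← hoy, pow_orderOf_eq_one,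
        one_zpow]
    · rw [hx2, ← orderOf_dvd_iff_zpow_eq_one, hoy] at h
      push_cast at h
      omega
  have hgen2 : zpowers ((x : ↥UB) * x) = zpowers y := eq_of_le_of_card_ge
    (zpowers_le.2 (hx2 ▸ zpow_mem (mem_zpowers y) _)) (by rw [Nat.card_zpowers, Nat.card_zpowers, hox2, hoy])
  obtain ⟨l, hl⟩ := mem_zpowers_iff.1 (hgen2.ge (mem_zpowers y))
  have hmap : ∀ w : ↥C, ((w : ↥D) : ↥UB) ∈ centralizer ({y} : Set ↥UB) := fun w => by
    refine mem_centralizer_singleton_iff.2 ?_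
    have hw : Commute ((w : ↥D) : ↥UB) (x : ↥UB) :=
      congrArg Subtype.val (mem_centralizer_singleton_iff.1 w.2)
    rw [← hl]
    exact ((hw.mul_right hw).zpow_right l).eq
  have h22 := Nat.card_le_card_of_injective (fun w : ↥C => (⟨_, hmap w⟩ : ↥(centralizer ({y} : Set ↥UB))))
    fun u v e => Subtype.ext (Subtype.ext (congrArg Subtype.val e :))
  rw [cent_eleven hoy] at h22
  have h660 := hA.trans (Set.ncard_le_ncard hAC (Set.toFinite _))
  rw [← Nat.card_coe_set_eq, SetLike.coe_sort_coe] at h660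
  omega

end CfsgLib.CoThreeEndgame
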